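import Cfsg.Agent.Co3Rec.Facts
import Cfsg.Agent.Co3Rec.Data.Std

/-!
The tables on the square central elements of the Sylow two-subgroup, checked.
-/

set_option autoImplicit false
set_option maxRecDepth 100000

namespace Cfsg.Agent.Co3Rec.Std

open Cfsg Cfsg.Agent.Compute Cfsg.Agent.StemCert

theorem sq_ok : allBelow Data.pN (fun i => Nat.blt (Data.sq i) Data.pN &&
    same (pW i ++ pW i) (pW (Data.sq i)) && Nat.blt (Data.tm i) Data.pN &&
      same (Data.tL :: pW i) (pW (Data.tm i))) = true := by decide +kernel

/-- The test of square central elements of the list. -/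
noncomputable abbrev specB (i : ℕ) : Bool :=
  (Nat.beq (Data.sq i) 0 || Nat.beq (Data.sq i) Data.pT) && !(Nat.beq i 0) && !(Nat.beq i Data.pT)

/-- A word of the witness list. -/
noncomputable abbrev witW (k : ℕ) : List ℕ := unW (Data.wit.get k)

/-- The first witness after `a`, among `n`, not commuting with the element. -/
noncomputable def anyFrom (f : ℕ → Bool) (a : ℕ) (n : ℕ) : Bool :=
  Nat.rec (motive := fun _ => Bool) false (fun k r => f (Nat.add a k) || r) n

theorem anyFrom_spec {f : ℕ → Bool} {a : ℕ} : ∀ {n : ℕ}, anyFrom f a n = true → ∃ k < n, f (a + k) = true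
  | 0, h => by exact absurd h (by simp [anyFrom])
  | n + 1, h => by
    have h' : (f (a + n) || anyFrom f a n) = true := h
    rcases Bool.or_eq_true_iff.mp h' with h' | h'
    · exact ⟨n, by omega, h'⟩
    · obtain ⟨k, hk, hf⟩ := anyFrom_spec h'
      exact ⟨k, by omega, hf⟩

theorem witOk : allBelow Data.pN (fun x => cond (specB x)
    (forceN (Data.witOff x) fun a => forceN (Nat.sub (Data.witOff (Nat.succ x)) a) fun n =>
      allBelow n (fun k => inC (witW (Nat.add a k)) &&
        same (witW (Nat.add a k) ++ pW x) (pW x ++ witW (Nat.add a k)))) true) = true := by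
  decide +kernel

theorem pairsOk : allBelow Data.pN (fun x => cond (specB x)
    (allBelow Data.pN (fun j => cond (specB j)
      (Nat.beq j x || Nat.beq j (Data.tm x) ||
        forceN (Data.witOff x) fun a => forceN (Nat.sub (Data.witOff (Nat.succ x)) a) fun n =>
          anyFrom (fun k => !(same (witW k ++ pW j) (pW j ++ witW k))) a n) true)) true) = true := by
  decide +kernel

theorem centOk : allBelow Data.pN (fun i =>
    Nat.beq (Data.sq i) 0 || Nat.beq (Data.sq i) Data.pT ||
      Data.pGens.any (fun g => !(same (g :: pW i) (pW i ++ [g])) &&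
        !(same (g :: pW i) (Data.tL :: (pW i ++ [g]))))) = true := by decide +kernel

theorem lOk : allBelow Data.pN (fun i => cond (Nat.beq (Data.sq i) Data.pT)
    (Nat.blt (Data.lRep i) Data.pN && inC (unW (Data.lConj.get i)) &&
      same (pW i) (unW (Data.lConj.get i) ++ pW (Data.lRep i) ++ ctx.inv (unW (Data.lConj.get i))) &&
      allB (fun g => same (g :: pW (Data.lRep i)) (pW (Data.lRep i) ++ [g]) ||
        same (g :: pW (Data.lRep i)) (Data.tL :: (pW (Data.lRep i) ++ [g]))) Data.pGens) true) = true := by
  decide +kernel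

theorem squareOk : allBelow Data.pN (fun i => cond (Nat.beq (Data.sq (Data.sq i)) 0)
    (Nat.blt (Data.pType (Data.sq i)) 4 && Nat.blt (Data.pType (Data.tm (Data.sq i))) 4) true) = true := by
  decide +kernel

end Cfsg.Agent.Co3Rec.Std
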