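import Cfsg.Agent.Co3Rec.Std.Check

/-!
Facts on elements of the double cover of Sp6(2) whose square is central, read off from the Sylow
two-subgroup of the model.
-/

set_option autoImplicit false
set_option maxRecDepth 100000

namespace Cfsg.Agent.Co3Rec.Std

open Cfsg Cfsg.Agent.Compute Cfsg.Agent.StemCert

/-- The element of the Sylow list. -/
noncomputable abbrev pe (i : ℕ) : R := ctx.ev (pW i)

theorem pT_spec : Data.pT < Data.pN ∧ pe Data.pT = tE := by
  have h := pT_ok
  simp only [Bool.and_eq_true, Nat.blt_eq] at h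
  exact ⟨h.1, (eq_of_same h.2).trans (ctx.ev_single _)⟩

theorem pe_zero : pe 0 = 1 := by
  show ctx.ev (pW 0) = 1
  rw [show pW 0 = [] by decide +kernel]
  rfl

theorem sq_spec {i : ℕ} (hi : i < Data.pN) :
    Data.sq i < Data.pN ∧ pe (Data.sq i) = pe i * pe i ∧ Data.tm i < Data.pN ∧
      pe (Data.tm i) = tE * pe i := by
  have h := allBelow_eq_true.mp sq_ok i hi
  simp only [Bool.and_eq_true, Nat.blt_eq] at h
  exact ⟨h.1.1.1, (eq_of_same h.1.1.2).symm.trans (ctx.ev_append _ _), h.1.2,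
    (eq_of_same h.2).symm.trans (ctx.ev_cons _ _)⟩

theorem pe_inj {i j : ℕ} (hi : i < Data.pN) (hj : j < Data.pN) (h : pe i = pe j) : i = j := by
  classical
  have hinj := Finset.card_image_iff.mp (le_antisymm (Finset.card_image_le (s := Finset.range Data.pN) (f := pe)) (by
    have := card_le_of_keys pW Data.pOrd pKeys (↑((Finset.range Data.pN).image pe) : Set R)
      fun k hk => Finset.mem_coe.mpr (Finset.mem_image.mpr ⟨k, Finset.mem_range.mpr hk, rfl⟩)
    rw [Finset.card_range]
    exact this.trans_eq (Nat.card_eq_finsetCard _)))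
  exact hinj (Finset.mem_coe.mpr (Finset.mem_range.mpr hi)) (Finset.mem_coe.mpr (Finset.mem_range.mpr hj)) h

/-- A two-element of the model moved into the Sylow list. -/
theorem exists_pe {Q : Subgroup R} (hQ : IsPGroup 2 Q) (hQC : Q ≤ C0) :
    ∃ g ∈ C0, ∀ q ∈ Q, ∃ i < Data.pN, g * q * g⁻¹ = pe i := by
  obtain ⟨g, hg, h⟩ := conj_into_P0 hQ hQC
  exact ⟨g, hg, fun q hq => P0_listed (h q hq)⟩

theorem conj_tE {g : R} (hg : g ∈ C0) : g * tE * g⁻¹ = tE := by
  rw [tE_central hg, mul_inv_cancel_right]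

/-- Square central, itself not. -/
def Special (x : R) : Prop := (x * x = 1 ∨ x * x = tE) ∧ x ≠ 1 ∧ x ≠ tE

theorem Special.conj {x g : R} (hg : g ∈ C0) (h : Special x) : Special (g * x * g⁻¹) := by
  have e : g * x * g⁻¹ * (g * x * g⁻¹) = g * (x * x) * g⁻¹ := by group
  refine ⟨?_, fun h1 => h.2.1 (conj_eq_one_iff.mp h1), fun h1 => h.2.2 ?_⟩
  · rcases h.1 with h1 | h1 <;> rw [e, h1]
    · left; group
    · right; exact conj_tE hg
  · calc x = g⁻¹ * (g * x * g⁻¹) * g := by group
      _ = g⁻¹ * (tE * g) := by rw [h1, mul_assoc]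
      _ = tE := by rw [← tE_central hg, inv_mul_cancel_left]

theorem specB_of {i : ℕ} (hi : i < Data.pN) (h : Special (pe i)) : specB i = true := by
  have hs := sq_spec hi
  have h0 : ¬ i = 0 := fun e => h.2.1 (e ▸ pe_zero)
  have h5 : ¬ i = Data.pT := fun e => h.2.2 (e ▸ pT_spec.2)
  have hsq : Data.sq i = 0 ∨ Data.sq i = Data.pT := by
    rcases h.1 with h1 | h1
    · exact Or.inl (pe_inj hs.1 (lt_of_le_of_lt (Nat.zero_le _) pT_spec.1) (by rw [hs.2.1, h1, pe_zero]))
    · exact Or.inr (pe_inj hs.1 pT_spec.1 (by rw [hs.2.1, h1, pT_spec.2]))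
  simp only [specB, Bool.and_eq_true, Bool.or_eq_true, Nat.beq_eq, Bool.not_eq_true']
  exact ⟨⟨hsq, Bool.eq_false_iff.mpr fun e => h0 (Nat.eq_of_beq_eq_true e)⟩,
    Bool.eq_false_iff.mpr fun e => h5 (Nat.eq_of_beq_eq_true e)⟩

/-- Two square central elements, every element centralising the first centralising the second. -/
theorem special_pair {x y : R} (hx : x ∈ C0) (hy : y ∈ C0) (sx : Special x) (sy : Special y)
    (h : ∀ g ∈ C0, g * x = x * g → g * y = y * g) : y = x ∨ y = tE * x := by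
  have hxy : x * y = y * x := h x hx rfl
  have hp : ∀ {w : R}, w * w = 1 ∨ w * w = tE → w ^ 4 = 1 := fun {w} hw => by
    rw [show (4 : ℕ) = 2 * 2 from rfl, pow_mul, pow_two w]
    rcases hw with hw | hw <;> rw [hw, pow_two]
    · exact one_mul 1
    · exact tE_sq
  let Q : Subgroup R := Subgroup.closure {x, y}
  have hQ : Q ≤ C0 := (Subgroup.closure_le _).mpr (by rintro w (rfl | rfl) <;> assumption)
  have hc : ∀ a ∈ ({x, y} : Set R), ∀ b ∈ ({x, y} : Set R), a * b = b * a := by
    rintro a (rfl | rfl) b (rfl | rfl)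
    exacts [rfl, hxy, hxy.symm, rfl]
  have hQ2 : IsPGroup 2 Q := by
    rintro ⟨q, hq⟩
    refine ⟨2, Subtype.ext ?_⟩
    have hq4 : q ^ 4 = 1 ∧ q ∈ Q := by
      induction hq using Subgroup.closure_induction with
      | mem w hw => exact ⟨by rcases hw with rfl | rfl; exacts [hp sx.1, hp sy.1], Subgroup.subset_closure hw⟩
      | one => exact ⟨one_pow 4, one_mem _⟩
      | mul a b _ _ ha hb =>
        refine ⟨?_, mul_mem ha.2 hb.2⟩
        have := Subgroup.isMulCommutative_closure hc
        have hab : Commute a b := congrArg Subtype.val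
          (IsMulCommutative.is_comm.comm (⟨a, ha.2⟩ : Q) ⟨b, hb.2⟩)
        rw [hab.mul_pow, ha.1, hb.1, one_mul]
      | inv a _ ha => exact ⟨by rw [inv_pow, ha.1, inv_one], inv_mem ha.2⟩
    exact hq4.1
  obtain ⟨g, hg, hgl⟩ := exists_pe hQ2 hQ
  obtain ⟨i, hi, ei⟩ := hgl x (Subgroup.subset_closure (Or.inl rfl))
  obtain ⟨j, hj, ej⟩ := hgl y (Subgroup.subset_closure (Or.inr rfl))
  have bi := specB_of hi (ei ▸ sx.conj hg)
  have bj := specB_of hj (ej ▸ sy.conj hg)
  have hw := allBelow_eq_true.mp witOk i hi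
  have hh := allBelow_eq_true.mp pairsOk i hi
  rw [bi, cond_true] at hw hh
  have hh := allBelow_eq_true.mp hh j hj
  rw [bj, cond_true] at hh
  simp only [forceN_eq] at hw hh
  simp only [Bool.or_eq_true, Nat.beq_eq] at hh
  have hback : ∀ w : R, g * y * g⁻¹ = w → y = g⁻¹ * w * g := fun w e => by rw [← e]; group
  rcases hh with (hh | hh) | hh
  · left
    rw [hback _ ej, hh, ← ei]; group
  · right
    rw [hback _ ej, hh, (sq_spec hi).2.2.2, ← ei, ← mul_assoc g⁻¹ tE, tE_central (inv_mem hg)]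
    group
  exfalso
  obtain ⟨k, hk, hne⟩ := anyFrom_spec hh
  have hk' := allBelow_eq_true.mp hw k hk
  simp only [Bool.and_eq_true] at hk'
  have hwk : inC (witW (Data.witOff i + k)) = true := hk'.1
  have hwc : ctx.ev (witW (Data.witOff i + k)) * pe i = pe i * ctx.ev (witW (Data.witOff i + k)) := by
    have e := eq_of_same hk'.2
    rwa [Ctx.ev_append, Ctx.ev_append] at e
  rw [Bool.not_eq_true'] at hne
  generalize witW (Data.witOff i + k) = w at hwk hwc hne
  have hcy := h (g⁻¹ * ctx.ev w * g) (mul_mem (mul_mem (inv_mem hg) (ev_mem hwk)) hg) (by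
    rw [← ei] at hwc
    calc g⁻¹ * ctx.ev w * g * x = g⁻¹ * (ctx.ev w * (g * x * g⁻¹)) * g := by group
      _ = _ := by rw [hwc]; group)
  have : same (w ++ pW j) (pW j ++ w) = true := by
    refine same_of_eq ?_ ?_ ?_
    · intro s hs; rcases List.mem_append.mp hs with hs | hs
      exacts [lt_of_inC hwk s hs, pW_lt hj s hs]
    · intro s hs; rcases List.mem_append.mp hs with hs | hs
      exacts [pW_lt hj s hs, lt_of_inC hwk s hs]
    · rw [Ctx.ev_append, Ctx.ev_append]
      show ctx.ev w * pe j = pe j * ctx.ev w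
      rw [← ej]
      calc ctx.ev w * (g * y * g⁻¹) = g * (g⁻¹ * ctx.ev w * g * y) * g⁻¹ := by group
        _ = _ := by rw [hcy]; group
  rw [this] at hne
  exact Bool.noConfusion hne

/-- An element centralised modulo the centre by a full Sylow two-subgroup has central square. -/
theorem sq_central_of_sylow {u : R} (hu : u ∈ C0) (h8 : u ^ 8 = 1) (Y : Subgroup R) (hY : Y ≤ C0)
    (hcard : 2 ^ 10 ∣ Nat.card Y) (hc : ∀ y ∈ Y, y * u * y⁻¹ = u ∨ y * u * y⁻¹ = tE * u) :
    u * u = 1 ∨ u * u = tE := by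
  have : Fact (Nat.Prime 2) := ⟨Nat.prime_two⟩
  obtain ⟨Qs, hQs⟩ := Sylow.exists_subgroup_card_pow_prime (G := Y) 2 hcard
  let Q : Subgroup R := Qs.map Y.subtype
  have hQY : Q ≤ Y := Subgroup.map_subtype_le Qs
  have hQc : Nat.card Q = 2 ^ 10 := by
    rw [Subgroup.card_map_of_injective Y.subtype_injective, hQs]
  have hQ2 : IsPGroup 2 Q := IsPGroup.of_card hQc
  have htu : tE * u = u * tE := (tE_central hu).symm
  let U : Subgroup R := Subgroup.closure {u, tE}
  have hUc : ∀ w ∈ U, w ^ 8 = 1 ∧ Commute w u ∧ Commute w tE := by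
    intro w hw
    induction hw using Subgroup.closure_induction with
    | mem w hw =>
      rcases hw with rfl | rfl
      · exact ⟨h8, Commute.refl _, (tE_central hu)⟩
      · refine ⟨?_, htu, Commute.refl _⟩
        rw [show (8 : ℕ) = 2 * 4 from rfl, pow_mul, pow_two, tE_sq, one_pow]
    | one => exact ⟨one_pow _, Commute.one_left _, Commute.one_left _⟩
    | mul a b ha' hb' ha hb =>
      refine ⟨?_, ha.2.1.mul_left hb.2.1, ha.2.2.mul_left hb.2.2⟩
      have hab : Commute a b := by
        have key : U ≤ Subgroup.centralizer {a} := (Subgroup.closure_le _).mpr (by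
          rintro c (rfl | rfl)
          · exact Subgroup.mem_centralizer_singleton_iff.mpr ha.2.1.symm.eq
          · exact Subgroup.mem_centralizer_singleton_iff.mpr ha.2.2.symm.eq)
        exact (Subgroup.mem_centralizer_singleton_iff.mp (key hb') : b * a = a * b).symm
      rw [hab.mul_pow, ha.1, hb.1, one_mul]
    | inv a _ ha => exact ⟨by rw [inv_pow, ha.1, inv_one], ha.2.1.inv_left, ha.2.2.inv_left⟩
  have hU2 : IsPGroup 2 U := fun w => ⟨3, Subtype.ext (hUc w w.2).1⟩
  have hUC : U ≤ C0 := (Subgroup.closure_le _).mpr (by rintro w (rfl | rfl); exacts [hu, tE_mem])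
  have hnorm : Q ≤ Subgroup.normalizer (U : Set R) := by
    intro q hq
    rw [Subgroup.mem_normalizer_iff]
    have key : ∀ y ∈ Y, ∀ w ∈ U, y * w * y⁻¹ ∈ U := by
      intro y hy w hw
      induction hw using Subgroup.closure_induction with
      | mem w hw =>
        rcases hw with rfl | rfl
        · rcases hc y hy with e | e <;> rw [e]
          · exact Subgroup.subset_closure (Or.inl rfl)
          · exact mul_mem (Subgroup.subset_closure (Or.inr rfl)) (Subgroup.subset_closure (Or.inl rfl))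
        · rw [conj_tE (hY hy)]; exact Subgroup.subset_closure (Or.inr rfl)
      | one => rw [mul_one, mul_inv_cancel]; exact one_mem _
      | mul a b _ _ ha hb =>
        rw [show y * (a * b) * y⁻¹ = y * a * y⁻¹ * (y * b * y⁻¹) by group]
        exact mul_mem ha hb
      | inv a _ ha =>
        rw [show y * a⁻¹ * y⁻¹ = (y * a * y⁻¹)⁻¹ by group]
        exact inv_mem ha
    refine fun w => ⟨key q (hQY hq) w, fun h => ?_⟩
    have := key q⁻¹ (inv_mem (hQY hq)) _ h
    rwa [show q⁻¹ * (q * w * q⁻¹) * q⁻¹⁻¹ = w by group] at this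
  have hM := hQ2.to_sup_of_normal_right' hU2 hnorm
  obtain ⟨g, hg, hgl⟩ := exists_pe hM (sup_le (hQY.trans hY) hUC)
  obtain ⟨i, hi, ei⟩ := hgl u (Subgroup.mem_sup_right (Subgroup.subset_closure (Or.inl rfl)))
  have himg : Q.map (MulAut.conj g).toMonoidHom = P0 := by
    refine Subgroup.eq_of_le_of_card_ge ?_ ?_
    · rintro _ ⟨q, hq, rfl⟩
      obtain ⟨k, hk, ek⟩ := hgl q (Subgroup.mem_sup_left hq)
      show g * q * g⁻¹ ∈ P0
      rw [ek]; exact pW_mem hk
    · rw [card_P0, Subgroup.card_map_of_injective (MulAut.conj g).injective, hQc]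
  have h := allBelow_eq_true.mp centOk i hi
  simp only [Bool.or_eq_true, Nat.beq_eq, List.any_eq_true, Bool.and_eq_true, Bool.not_eq_true'] at h
  have hback : u * u = g⁻¹ * (pe i * pe i) * g := by rw [← ei]; group
  rcases h with (h | h) | ⟨s, hs, hs1, hs2⟩
  · left; rw [hback, ← (sq_spec hi).2.1, h, pe_zero]; group
  · right; rw [hback, ← (sq_spec hi).2.1, h, pT_spec.2, tE_central (inv_mem hg)]; group
  exfalso
  have hsk : s < ctx.k := lt_of_lt_of_le (Nat.blt_eq.mp (allB_spec pGens_lt s hs)) kC_le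
  obtain ⟨q, hq, eq⟩ : ctx.gen s ∈ Q.map (MulAut.conj g).toMonoidHom :=
    himg.symm ▸ Subgroup.subset_closure ⟨s, hs, rfl⟩
  replace eq : g * q * g⁻¹ = ctx.gen s := eq
  have hl : ∀ r ∈ pW i ++ [s], r < ctx.k := fun r hr => by
    rcases List.mem_append.mp hr with hr | hr
    exacts [pW_lt hi r hr, (List.mem_singleton.mp hr) ▸ hsk]
  have hl' : ∀ r ∈ s :: pW i, r < ctx.k := fun r hr => by
    rcases List.mem_cons.mp hr with rfl | hr
    exacts [hsk, pW_lt hi r hr]
  rcases hc q (hQY hq) with e | e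
  · have := same_of_eq hl' hl (by
      rw [Ctx.ev_cons, Ctx.ev_append, ctx.ev_single]
      show ctx.gen s * pe i = pe i * ctx.gen s
      rw [← eq, ← ei]
      calc g * q * g⁻¹ * (g * u * g⁻¹) = g * (q * u * q⁻¹) * q * g⁻¹ := by group
        _ = _ := by rw [e]; group)
    rw [hs1] at this; exact Bool.noConfusion this
  · have := same_of_eq hl' (fun r hr => by
        rcases List.mem_cons.mp hr with rfl | hr
        exacts [tL_ltk, hl r hr]) (b := Data.tL :: (pW i ++ [s])) (by
      rw [Ctx.ev_cons, Ctx.ev_cons, Ctx.ev_append, ctx.ev_single]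
      show ctx.gen s * pe i = tE * (pe i * ctx.gen s)
      rw [← eq, ← ei]
      calc g * q * g⁻¹ * (g * u * g⁻¹) = g * (q * u * q⁻¹) * q * g⁻¹ := by group
        _ = g * tE * g⁻¹ * (g * u * g⁻¹ * (g * q * g⁻¹)) := by rw [e]; group
        _ = _ := by rw [conj_tE hg])
    rw [hs2] at this; exact Bool.noConfusion this

/-- The centraliser of an element squaring to the central involution. -/
theorem two_pow_dvd_centralizer {x : C0} (hx : x * x = tC) :
    2 ^ 9 ∣ Nat.card (Subgroup.centralizer ({x} : Set C0)) := by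
  have hp : ((x : R)) ^ 4 = 1 := by
    rw [show (4 : ℕ) = 2 * 2 from rfl, pow_mul, pow_two (x : R)]
    rw [show (x : R) * x = tE from congrArg Subtype.val hx, pow_two, tE_sq]
  have hQ2 : IsPGroup 2 (Subgroup.zpowers (x : R)) := by
    rintro ⟨y, n, rfl⟩
    refine ⟨2, Subtype.ext ?_⟩
    show ((x : R) ^ n) ^ 2 ^ 2 = 1
    rw [← zpow_natCast, ← zpow_mul, mul_comm, zpow_mul, zpow_natCast]
    norm_num [hp]
  obtain ⟨g, hg, hgl⟩ := exists_pe hQ2 (Subgroup.zpowers_le.mpr x.2)
  obtain ⟨i, hi, ei⟩ := hgl x (Subgroup.mem_zpowers _)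
  have hsq : Data.sq i = Data.pT := by
    refine pe_inj (sq_spec hi).1 pT_spec.1 ?_
    rw [(sq_spec hi).2.1, pT_spec.2, ← ei]
    calc g * x * g⁻¹ * (g * x * g⁻¹) = g * ((x : R) * x) * g⁻¹ := by group
      _ = tE := by rw [show (x : R) * x = tE from congrArg Subtype.val hx, conj_tE hg]
  have h := allBelow_eq_true.mp lOk i hi
  rw [hsq, show Nat.beq Data.pT Data.pT = true from Nat.beq_eq.mpr rfl, cond_true] at h
  simp only [Bool.and_eq_true, Nat.blt_eq] at h
  obtain ⟨⟨⟨hr, hv⟩, he⟩, hgs⟩ := h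
  have e : pe i = ctx.ev (unW (Data.lConj.get i)) * pe (Data.lRep i) *
      (ctx.ev (unW (Data.lConj.get i)))⁻¹ := by
    have := eq_of_same he
    rwa [Ctx.ev_append, Ctx.ev_append, ctx.ev_inv (lt_of_inC hv)] at this
  set r := pe (Data.lRep i) with hrdef
  set v := ctx.ev (unW (Data.lConj.get i))
  have hrC : r ∈ C0 := P0_le (pW_mem hr)
  have hvC : v ∈ C0 := ev_mem hv
  have hcon : ∀ p ∈ P0, p * r * p⁻¹ = r ∨ p * r * p⁻¹ = tE * r := by
    intro p hp
    induction hp using Subgroup.closure_induction with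
    | mem p hp =>
      obtain ⟨s, hs, rfl⟩ := hp
      have := allB_spec hgs s hs
      simp only [Bool.or_eq_true] at this
      rcases this with h1 | h1 <;> have h1 := eq_of_same h1
      · left
        rw [Ctx.ev_cons, Ctx.ev_append, ctx.ev_single] at h1
        exact mul_inv_eq_iff_eq_mul.mpr h1
      · right
        rw [Ctx.ev_cons, Ctx.ev_cons, Ctx.ev_append, ctx.ev_single, ← mul_assoc] at h1
        exact mul_inv_eq_iff_eq_mul.mpr h1
    | one => left; group
    | mul a b ha hb iha ihb =>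
      have e1 : a * b * r * (a * b)⁻¹ = a * (b * r * b⁻¹) * a⁻¹ := by group
      rcases ihb with h2 | h2 <;> rw [e1, h2]
      · exact iha
      · have e2 : a * (tE * r) * a⁻¹ = tE * (a * r * a⁻¹) := by
          rw [show a * (tE * r) * a⁻¹ = (a * tE) * r * a⁻¹ by group, tE_central (P0_le ha)]; group
        rw [e2]
        rcases iha with h3 | h3 <;> rw [h3]
        · right; rfl
        · left; rw [← mul_assoc, tE_sq, one_mul]
    | inv a ha iha =>
      rcases iha with h3 | h3
      · left; conv_lhs => rw [← h3]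
        group
      · right
        have h4 : a⁻¹ * r * a⁻¹⁻¹ = tE * r := by
          have h5 : a⁻¹ * (tE * r) * a = r := by rw [← h3]; group
          rw [show a⁻¹ * (tE * r) * a = a⁻¹ * tE * r * a by group, tE_central (inv_mem (P0_le ha))] at h5
          calc a⁻¹ * r * a⁻¹⁻¹ = tE * (tE * a⁻¹ * r * a) := by
                rw [show tE * (tE * a⁻¹ * r * a) = tE * tE * (a⁻¹ * r * a) by group, tE_sq]; group
            _ = _ := by rw [h5]
        exact h4
  let χ : P0 →* R :=
    { toFun := fun p => (p : R) * r * (p : R)⁻¹ * r⁻¹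
      map_one' := by simp
      map_mul' := fun a b => by
        show ((a : R) * b) * r * ((a : R) * b)⁻¹ * r⁻¹ = _
        rcases hcon b b.2 with h2 | h2
        · rw [show ((a : R) * b) * r * ((a : R) * b)⁻¹ = a * ((b : R) * r * (b : R)⁻¹) * (a : R)⁻¹ by group, h2]
          group
        · have e2 : (a : R) * (tE * r) * (a : R)⁻¹ = tE * ((a : R) * r * (a : R)⁻¹) := by
            rw [show (a : R) * (tE * r) * (a : R)⁻¹ = ((a : R) * tE) * r * (a : R)⁻¹ by group,
              tE_central (P0_le a.2)]; group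
          rw [show ((a : R) * b) * r * ((a : R) * b)⁻¹ = a * ((b : R) * r * (b : R)⁻¹) * (a : R)⁻¹ by group,
            h2, e2, mul_inv_cancel_right]
          rcases hcon a a.2 with h3 | h3 <;> rw [h3]
          · group
          · group }
  have hrange : Nat.card χ.range ≤ 2 := by
    classical
    have hsub : (χ.range : Set R) ⊆ ↑({1, tE} : Finset R) := by
      rintro _ ⟨p, rfl⟩
      show (p : R) * r * (p : R)⁻¹ * r⁻¹ ∈ _
      rcases hcon p p.2 with h3 | h3 <;> rw [h3] <;> simp
    refine le_trans ?_ (Finset.card_le_two (a := (1 : R)) (b := tE))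
    rw [← Nat.card_eq_finsetCard]
    exact Nat.card_mono (Finset.finite_toSet _) hsub
  have hker : 2 ^ 9 ∣ Nat.card χ.ker := by
    have : Fact (Nat.Prime 2) := ⟨Nat.prime_two⟩
    obtain ⟨k, hk⟩ := (IsPGroup.iff_card.mp ((IsPGroup.of_card card_P0).to_subgroup χ.ker))
    have h1 := Subgroup.card_eq_card_quotient_mul_card_subgroup χ.ker
    rw [card_P0, Nat.card_congr (QuotientGroup.quotientKerEquivRange χ).toEquiv] at h1
    have h9 : 9 ≤ k := by
      by_contra hlt
      have : 2 ^ k ≤ 2 ^ 8 := Nat.pow_le_pow_right (by norm_num) (by omega)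
      rw [hk] at h1
      nlinarith
    rw [hk]; exact pow_dvd_pow 2 h9
  refine hker.trans ?_
  let w : C0 := ⟨g⁻¹ * v, mul_mem (inv_mem hg) hvC⟩
  have hxr : (x : R) = (w : R) * r * (w : R)⁻¹ := by
    show (x : R) = g⁻¹ * v * r * (g⁻¹ * v)⁻¹
    calc (x : R) = g⁻¹ * (g * x * g⁻¹) * g := by group
      _ = _ := by rw [ei, e]; group
  let f : χ.ker →* Subgroup.centralizer ({x} : Set C0) :=
    { toFun := fun p => ⟨w * ⟨(p : P0), P0_le (p : P0).2⟩ * w⁻¹, by
        refine Subgroup.mem_centralizer_singleton_iff.mpr (Subtype.ext ?_)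
        have hp : ((p : P0) : R) * r * ((p : P0) : R)⁻¹ = r := mul_inv_eq_one.mp (MonoidHom.mem_ker.mp p.2)
        show (w : R) * (p : P0) * (w : R)⁻¹ * x = x * ((w : R) * (p : P0) * (w : R)⁻¹)
        rw [hxr]
        calc (w : R) * (p : P0) * (w : R)⁻¹ * ((w : R) * r * (w : R)⁻¹)
            = (w : R) * (((p : P0) : R) * r * ((p : P0) : R)⁻¹) * (p : P0) * (w : R)⁻¹ := by group
          _ = _ := by rw [hp]; group⟩
      map_one' := Subtype.ext (Subtype.ext (by simp))
      map_mul' := fun a b => Subtype.ext (Subtype.ext (by simp [mul_assoc])) }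
  exact Subgroup.card_dvd_of_injective f fun a b h => by
    have := congrArg (fun z : Subgroup.centralizer ({x} : Set C0) => (((z : C0)) : R)) h
    exact Subtype.ext (Subtype.ext (mul_left_cancel (mul_right_cancel (this : (w : R) * (a : P0) * (w : R)⁻¹ = (w : R) * (b : P0) * (w : R)⁻¹))))

/-- An involution which is a square modulo the centre is of the class of the second involution. -/
theorem square_class {x w : R} (hw : w ∈ C0) (h2 : x * x = 1) (h1 : x ≠ 1) (ht : x ≠ tE)
    (hwx : w * w = x ∨ w * w = tE * x) : ∃ v ∈ C0, x = v * aE * v⁻¹ := by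
  have hxC : x ∈ C0 := by
    rcases hwx with e | e
    · exact e ▸ mul_mem hw hw
    · rw [show x = tE * (w * w) by rw [e, ← mul_assoc, tE_sq, one_mul]]
      exact mul_mem tE_mem (mul_mem hw hw)
  have hw4 : (w * w) * (w * w) = 1 := by
    rcases hwx with e | e <;> rw [e]
    · exact h2
    · calc tE * x * (tE * x) = tE * (x * tE) * x := by group
        _ = tE * tE * (x * x) := by rw [tE_central hxC]; group
        _ = 1 := by rw [tE_sq, h2, one_mul]
  have hQ2 : IsPGroup 2 (Subgroup.zpowers w) := by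
    rintro ⟨y, n, rfl⟩
    refine ⟨2, Subtype.ext ?_⟩
    show (w ^ n) ^ 2 ^ 2 = 1
    rw [← zpow_natCast, ← zpow_mul, mul_comm, zpow_mul, zpow_natCast]
    rw [show (2 : ℕ) ^ 2 = 2 + 2 from rfl, pow_add, pow_two, hw4, one_zpow]
  obtain ⟨g, hg, hgl⟩ := exists_pe hQ2 (Subgroup.zpowers_le.mpr hw)
  obtain ⟨i, hi, ei⟩ := hgl w (Subgroup.mem_zpowers _)
  obtain ⟨hs, es, -, -⟩ := sq_spec hi
  obtain ⟨hss, ess, htm, etm⟩ := sq_spec hs
  have esq : pe (Data.sq i) = g * (w * w) * g⁻¹ := by rw [es, ← ei]; group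
  have hz : Data.sq (Data.sq i) = 0 := pe_inj hss (lt_of_le_of_lt (Nat.zero_le _) hi) (by
    rw [ess, esq, pe_zero]
    calc _ = g * (w * w * (w * w)) * g⁻¹ := by group
      _ = 1 := by rw [hw4]; group)
  have h := allBelow_eq_true.mp squareOk i hi
  rw [hz, show Nat.beq 0 0 = true from rfl, cond_true] at h
  simp only [Bool.and_eq_true, Nat.blt_eq] at h
  have key : ∀ j < Data.pN, Data.pType j < 4 → pe j = g * x * g⁻¹ → ∃ v ∈ C0, x = v * aE * v⁻¹ := by
    intro j hj h4 ej
    have hx : x = g⁻¹ * pe j * g := by rw [ej]; group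
    rcases pType_spec hj (by
      show pe j * pe j = 1
      rw [ej]; calc _ = g * (x * x) * g⁻¹ := by group
        _ = 1 := by rw [h2]; group) with ⟨-, h'⟩ | ⟨-, h'⟩ | ⟨-, v, hv, h'⟩ | ⟨h', -⟩
    · exact absurd (by rw [hx, show pe j = 1 from h']; group) h1
    · refine absurd ?_ ht
      rw [hx, show pe j = tE from h', tE_central (inv_mem hg)]; group
    · exact ⟨g⁻¹ * v, mul_mem (inv_mem hg) hv, conj_eq_of (ej.symm.trans h')⟩
    · omega
  rcases hwx with e | e
  · exact key _ hs h.1 (by rw [esq, e])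
  · refine key _ htm h.2 ?_
    rw [etm, esq, e]
    calc tE * (g * (tE * x) * g⁻¹) = tE * (g * tE) * x * g⁻¹ := by group
      _ = tE * tE * (g * x * g⁻¹) := by rw [tE_central hg]; group
      _ = _ := by rw [tE_sq, one_mul]

end Cfsg.Agent.Co3Rec.Std
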