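import Cfsg.Agent.Co3Rec.Std.Facts

/-!
Facts on the centraliser of the second involution in the double cover of Sp6(2).
-/

set_option autoImplicit false
set_option maxRecDepth 100000

namespace Cfsg.Agent.Co3Rec.Std

open Cfsg Cfsg.Agent.Compute Cfsg.Agent.StemCert

/-- The element of the list of the centraliser. -/
noncomputable abbrev ke (i : ℕ) : R := ctx.ev (unW (Data.kEls.get i))

theorem ke_spec {i : ℕ} (hi : i < Data.kN) : inC (unW (Data.kEls.get i)) = true ∧ ke i ∈ C0 ∧
    ke i * aE = aE * ke i := by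
  have h := allBelow_eq_true.mp kEls_ok i hi
  simp only [Bool.and_eq_true] at h
  refine ⟨h.1, ev_mem h.1, ?_⟩
  have e := eq_of_same h.2
  simpa [Ctx.ev_append, Ctx.ev_cons, aE] using e

/-- The centraliser of the second involution in the model has order `4608`. -/
theorem card_centralizer_aC : Nat.card (Subgroup.centralizer ({aC} : Set C0)) = 4608 := by
  refine le_antisymm card_centralizer_a ?_
  let S : Set R := {y | y ∈ C0 ∧ y * aE = aE * y}
  have h := card_le_of_keys (N := Data.kN) (fun i => unW (Data.kEls.get i)) Data.kOrd kEls_keys S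
    fun i hi => ⟨(ke_spec hi).2.1, (ke_spec hi).2.2⟩
  rw [show Data.kN = 4608 by decide +kernel] at h
  refine h.trans ?_
  let f : S → Subgroup.centralizer ({aC} : Set C0) := fun y =>
    ⟨⟨y.1, y.2.1⟩, Subgroup.mem_centralizer_singleton_iff.mpr (Subtype.ext y.2.2)⟩
  exact Nat.card_le_card_of_injective f fun y z e =>
    Subtype.ext (congrArg (fun w : Subgroup.centralizer ({aC} : Set C0) => ((w : C0) : R)) e)

/-- The word of the nine elements of a Sylow three-subgroup. -/
noncomputable abbrev qw (i : ℕ) : List ℕ := Data.qW.getD i []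

theorem qOk : allBelow 9 (fun i => inC (qw i) && same (qw i ++ [Data.aL]) (Data.aL :: qw i) &&
    Nat.blt (Data.qInv.getD i 9) 9 && same (qw i ++ qw (Data.qInv.getD i 9)) [] &&
    allBelow 9 (fun j => Nat.blt (Data.qMul.getD (Nat.add (Nat.mul i 9) j) 9) 9 &&
      same (qw i ++ qw j) (qw (Data.qMul.getD (Nat.add (Nat.mul i 9) j) 9)))) = true := by decide +kernel

theorem qKeys : allBelow 9 (fun i => allBelow 9 fun j => Nat.beq i j ||
    !(Nat.beq (keyW Data.codes (qw i)) (keyW Data.codes (qw j)))) = true := by decide +kernel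

theorem qOne : same (qw 0) [] = true := by decide +kernel

/-- The nine elements. -/
noncomputable def qe (i : Fin 9) : C0 := ⟨ctx.ev (qw i), ev_mem (by
  have h := allBelow_eq_true.mp qOk i i.2
  simp only [Bool.and_eq_true] at h
  exact h.1.1.1.1)⟩

theorem qe_spec (i : Fin 9) : (qe i * aC = aC * qe i) ∧ (∃ j, qe i * qe j = 1) ∧
    ∀ j, ∃ k, qe i * qe j = qe k := by
  have h := allBelow_eq_true.mp qOk i i.2
  simp only [Bool.and_eq_true, Nat.blt_eq] at h
  obtain ⟨⟨⟨⟨-, hc⟩, hi⟩, he⟩, hm⟩ := h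
  refine ⟨Subtype.ext ?_, ⟨⟨_, hi⟩, Subtype.ext ?_⟩, fun j => ?_⟩
  · have e := eq_of_same hc
    rw [Ctx.ev_append, Ctx.ev_cons, Ctx.ev_cons, Ctx.ev_nil, mul_one] at e
    exact e
  · have e := eq_of_same he
    rw [Ctx.ev_append] at e
    exact e
  · have h := allBelow_eq_true.mp hm j j.2
    simp only [Bool.and_eq_true, Nat.blt_eq] at h
    refine ⟨⟨_, h.1⟩, Subtype.ext ?_⟩
    have e := eq_of_same h.2
    rw [Ctx.ev_append] at e
    exact e

/-- A Sylow three-subgroup of the centraliser. -/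
noncomputable def Q9 : Subgroup C0 where
  carrier := Set.range qe
  one_mem' := ⟨0, Subtype.ext (eq_of_same qOne)⟩
  mul_mem' := by
    rintro _ _ ⟨i, rfl⟩ ⟨j, rfl⟩
    obtain ⟨k, hk⟩ := (qe_spec i).2.2 j
    exact ⟨k, hk.symm⟩
  inv_mem' := by
    rintro _ ⟨i, rfl⟩
    obtain ⟨j, hj⟩ := (qe_spec i).2.1
    exact ⟨j, (inv_eq_of_mul_eq_one_right hj).symm⟩

theorem Q9_le : Q9 ≤ Subgroup.centralizer {aC} := by
  rintro _ ⟨i, rfl⟩
  exact Subgroup.mem_centralizer_singleton_iff.mpr (qe_spec i).1

theorem qe_injective : Function.Injective qe := fun i j h => by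
  have hl : ∀ i : Fin 9, ∀ s ∈ qw i, s < ctx.k := fun i => by
    have h := allBelow_eq_true.mp qOk i i.2
    simp only [Bool.and_eq_true] at h
    exact lt_of_inC h.1.1.1.1
  have e : keyW Data.codes (qw i) = keyW Data.codes (qw j) := ctx.key_eq (hl i) (hl j) (congrArg Subtype.val h)
  have h' := allBelow_eq_true.mp (allBelow_eq_true.mp qKeys i i.2) j j.2
  simp only [Bool.or_eq_true, Nat.beq_eq, Bool.not_eq_true'] at h'
  rcases h' with h' | h'
  · exact Fin.ext h'
  · rw [show Nat.beq (keyW Data.codes (qw i)) (keyW Data.codes (qw j)) = true from Nat.beq_eq.mpr e] at h'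
    exact Bool.noConfusion h'

theorem card_Q9 : Nat.card Q9 = 9 := by
  have h : Nat.card Q9 = Nat.card (Set.range qe) := rfl
  rw [h, Nat.card_range_of_injective qe_injective, Nat.card_fin]

/-- A subgroup of the centraliser whose order is a multiple of nine contains a conjugate of `Q9`. -/
theorem exists_conj_Q9 (Y : Subgroup C0) (hY : Y ≤ Subgroup.centralizer {aC}) (h9 : 9 ∣ Nat.card Y) :
    ∃ g ∈ Subgroup.centralizer ({aC} : Set C0), ∀ q ∈ Q9, g * q * g⁻¹ ∈ Y := by
  classical
  have : Fact (Nat.Prime 3) := ⟨Nat.prime_three⟩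
  obtain ⟨T, hT⟩ := Sylow.exists_subgroup_card_pow_prime (G := Y) 3 (n := 2) h9
  set C := Subgroup.centralizer ({aC} : Set C0)
  let T' : Subgroup C := T.map (Subgroup.inclusion hY)
  have hf : (Nat.card C).factorization 3 = 2 := by
    rw [card_centralizer_aC, show (4608 : ℕ) = 3 ^ 2 * 512 by norm_num,
      Nat.factorization_mul (by norm_num) (by norm_num), Finsupp.add_apply,
      Nat.Prime.factorization_pow Nat.prime_three, Nat.factorization_eq_zero_of_not_dvd (by norm_num)]
    simp
  have hT' : Nat.card T' = 3 ^ (Nat.card C).factorization 3 := by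
    rw [hf, Subgroup.card_map_of_injective (Subgroup.inclusion_injective hY), hT]
  have hQ' : Nat.card (Q9.subgroupOf C) = 3 ^ (Nat.card C).factorization 3 := by
    rw [hf, Nat.card_congr (Subgroup.subgroupOfEquivOfLe Q9_le).toEquiv, card_Q9]; rfl
  obtain ⟨g, hg⟩ := MulAction.exists_smul_eq C (Sylow.ofCard _ hQ') (Sylow.ofCard _ hT')
  refine ⟨g, g.2, fun q hq => ?_⟩
  have h1 : (Q9.subgroupOf C).map (MulAut.conj g).toMonoidHom = T' := by
    have := congrArg Sylow.toSubgroup hg
    rwa [Sylow.coe_subgroup_smul] at this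
  obtain ⟨y, -, hy⟩ : g * ⟨q, Q9_le hq⟩ * g⁻¹ ∈ T' := by
    rw [← h1]; exact ⟨⟨q, Q9_le hq⟩, hq, rfl⟩
  have e := congrArg (fun w : C => (w : C0)) hy
  simp only [Subgroup.coe_mul, Subgroup.coe_inv] at e
  rw [← e]
  exact y.2

/-- The word of a product of conjugates of a word and of its inverse. -/
noncomputable def pieceW (q : List ℕ) (l : List (Bool × ℕ)) : List ℕ :=
  l.flatMap fun p => unW (Data.kEls.get p.2) ++ (cond p.1 (ctx.inv q) q ++ ctx.inv (unW (Data.kEls.get p.2)))

theorem pieceOk : allBelow 9 (fun i => Nat.beq i 0 ||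
    (allB (fun p : Bool × ℕ => Nat.blt p.2 Data.kN) (Data.qPieces.getD i []) &&
      same (pieceW (qw i) (Data.qPieces.getD i []) ++ pieceW (qw i) (Data.qPieces.getD i [])) [] &&
      !(same (pieceW (qw i) (Data.qPieces.getD i [])) []) &&
      !(same (pieceW (qw i) (Data.qPieces.getD i [])) [Data.aL]))) = true := by decide +kernel

/-- A normal subgroup of the centraliser meeting `Q9` contains another involution. -/
theorem exists_other_involution (D : Subgroup C0) {q : C0} (hq : q ∈ Q9) (hq1 : q ≠ 1) (hqD : q ∈ D)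
    (hn : ∀ g : C0, g * aC = aC * g → ∀ d ∈ D, g * d * g⁻¹ ∈ D) :
    ∃ d ∈ D, d * d = 1 ∧ d ≠ 1 ∧ d ≠ aC := by
  obtain ⟨i, rfl⟩ := hq
  have h := allBelow_eq_true.mp pieceOk i i.2
  simp only [Bool.or_eq_true, Nat.beq_eq, Bool.and_eq_true, Bool.not_eq_true'] at h
  rcases h with h | h
  · exfalso
    apply hq1
    rw [show i = 0 from Fin.ext h]
    exact Subtype.ext (eq_of_same qOne)
  obtain ⟨⟨⟨hb, hsq⟩, hne⟩, hna⟩ := h
  have hql : ∀ s ∈ qw i, s < ctx.k := by
    have h := allBelow_eq_true.mp qOk i i.2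
    simp only [Bool.and_eq_true] at h
    exact lt_of_inC h.1.1.1.1
  have key : ∀ l : List (Bool × ℕ), (∀ p ∈ l, p.2 < Data.kN) →
      (∀ s ∈ pieceW (qw i) l, s < ctx.k) ∧ ∃ d ∈ D, (d : R) = ctx.ev (pieceW (qw i) l) := by
    intro l hl
    induction l with
    | nil => exact ⟨by simp [pieceW], 1, one_mem _, rfl⟩
    | cons p l ih =>
      obtain ⟨ih1, d, hd, ed⟩ := ih fun r hr => hl r (List.mem_cons_of_mem _ hr)
      obtain ⟨hin, hmem, hcomm⟩ := ke_spec (hl p (by simp))
      have hkl := lt_of_inC hin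
      have hm : ∀ s ∈ cond p.1 (ctx.inv (qw i)) (qw i), s < ctx.k := by
        rcases p.1 <;> first | exact hql | exact ctx.inv_lt hql
      have e : pieceW (qw i) (p :: l) = (unW (Data.kEls.get p.2) ++ (cond p.1 (ctx.inv (qw i)) (qw i) ++
          ctx.inv (unW (Data.kEls.get p.2)))) ++ pieceW (qw i) l := rfl
      refine ⟨fun s hs => ?_, ?_⟩
      · rw [e, List.mem_append, List.mem_append, List.mem_append] at hs
        rcases hs with (hs | hs | hs) | hs
        exacts [hkl s hs, hm s hs, ctx.inv_lt hkl s hs, ih1 s hs]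
      · let g : C0 := ⟨ke p.2, hmem⟩
        have hg : g * aC = aC * g := Subtype.ext hcomm
        refine ⟨g * cond p.1 (qe i)⁻¹ (qe i) * g⁻¹ * d,
          mul_mem (hn g hg _ (by rcases p.1 <;> first | exact hqD | exact inv_mem hqD)) hd, ?_⟩
        rw [e, Ctx.ev_append, Ctx.ev_append, Ctx.ev_append, ctx.ev_inv hkl, ← ed]
        rcases p.1
        · simp [g, qe, mul_assoc]
        · simp only [cond_true, ctx.ev_inv hql]; simp [g, qe, mul_assoc]
  obtain ⟨hlt, d, hd, ed⟩ := key _ fun p hp => Nat.blt_eq.mp (allB_spec hb p hp)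
  refine ⟨d, hd, Subtype.ext ?_, fun h => ?_, fun h => ?_⟩
  · have e := eq_of_same hsq
    rw [Ctx.ev_append, ← ed] at e
    exact e
  · have := same_of_eq hlt (b := []) (by simp) (by rw [← ed, h]; rfl)
    rw [hne] at this; exact Bool.noConfusion this
  · have hal : ∀ s ∈ [Data.aL], s < ctx.k := fun s hs =>
      (List.mem_singleton.mp hs) ▸ lt_of_lt_of_le aL_lt.1 kC_le
    have := same_of_eq hlt hal (by rw [← ed, h, ctx.ev_single]; rfl)
    rw [hna] at this; exact Bool.noConfusion this

theorem commOk : allBelow Data.kN (fun c => forceN (Data.kEls.get c) fun v =>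
    cond (same (unW v ++ unW v) [Data.aL] || same (unW v ++ unW v) [Data.tL, Data.aL])
      (!(allBelow 9 fun i => same (unW v ++ qw i) (qw i ++ unW v) ||
        same (unW v ++ qw i) (Data.tL :: (qw i ++ unW v)))) true) = true := by
  decide +kernel

/-- No square root of the second involution modulo the centre is centralised by `Q9`. -/
theorem no_root_centralised {u : C0} (hsq : u * u = aC ∨ u * u = tC * aC)
    (hc : ∀ q ∈ Q9, q * u * q⁻¹ = u ∨ q * u * q⁻¹ = tC * u) : False := by
  have hua : (u : R) * aE = aE * (u : R) := by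
    have h2 : u * (u * u) = u * u * u := (mul_assoc u u u).symm
    rcases hsq with e | e <;> rw [e] at h2
    · exact congrArg Subtype.val h2
    · refine congrArg Subtype.val (show u * aC = aC * u from mul_left_cancel (a := tC) ?_)
      rw [← mul_assoc, ← mul_assoc, ← Subgroup.mem_center_iff.mp tC_center u, mul_assoc u tC, h2]
  obtain ⟨c, hc', ec⟩ := centralizer_a_listed u.2 hua
  have hcl := lt_of_inC (ke_spec hc').1
  have h := allBelow_eq_true.mp commOk c hc'
  rw [forceN_eq] at h
  have hal : Data.aL < ctx.k := lt_of_lt_of_le aL_lt.1 kC_le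
  have hb : (same (unW (Data.kEls.get c) ++ unW (Data.kEls.get c)) [Data.aL] ||
      same (unW (Data.kEls.get c) ++ unW (Data.kEls.get c)) [Data.tL, Data.aL]) = true := by
    rw [Bool.or_eq_true]
    have hl : ∀ s ∈ unW (Data.kEls.get c) ++ unW (Data.kEls.get c), s < ctx.k := fun s hs => by
      rcases List.mem_append.mp hs with hs | hs <;> exact hcl s hs
    rcases hsq with e | e
    · left
      refine same_of_eq hl (by simpa using hal) ?_
      rw [Ctx.ev_append, ctx.ev_single, ← ec]
      exact congrArg Subtype.val e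
    · right
      refine same_of_eq hl (by simpa using ⟨tL_ltk, hal⟩) ?_
      rw [Ctx.ev_append, Ctx.ev_cons, ctx.ev_single, ← ec]
      exact congrArg Subtype.val e
  rw [hb, cond_true, Bool.not_eq_true'] at h
  refine Bool.eq_false_iff.mp h ?_
  rw [allBelow_eq_true]
  intro i hi
  have hql : ∀ s ∈ qw i, s < ctx.k := by
    have h := allBelow_eq_true.mp qOk i hi
    simp only [Bool.and_eq_true] at h
    exact lt_of_inC h.1.1.1.1
  have hqc : ∀ s ∈ qw i ++ unW (Data.kEls.get c), s < ctx.k := fun s hs => by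
    rcases List.mem_append.mp hs with hs | hs
    exacts [hql s hs, hcl s hs]
  have hcq : ∀ s ∈ unW (Data.kEls.get c) ++ qw i, s < ctx.k := fun s hs => by
    rcases List.mem_append.mp hs with hs | hs
    exacts [hcl s hs, hql s hs]
  have hq : qe ⟨i, hi⟩ ∈ Q9 := ⟨_, rfl⟩
  rw [Bool.or_eq_true]
  rcases hc _ hq with e | e
  · left
    refine same_of_eq hcq hqc ?_
    rw [Ctx.ev_append, Ctx.ev_append, ← ec]
    exact (congrArg Subtype.val (mul_inv_eq_iff_eq_mul.mp e)).symm
  · right
    refine same_of_eq hcq (fun s hs => ?_) ?_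
    · rcases List.mem_cons.mp hs with rfl | hs
      exacts [tL_ltk, hqc s hs]
    · rw [Ctx.ev_append, Ctx.ev_cons, Ctx.ev_append, ← ec]
      have e1 : qe ⟨i, hi⟩ * u = tC * u * qe ⟨i, hi⟩ := mul_inv_eq_iff_eq_mul.mp e
      show ((u * qe ⟨i, hi⟩ : C0) : R) = ((tC * (qe ⟨i, hi⟩ * u) : C0) : R)
      refine congrArg Subtype.val ?_
      rw [e1, ← mul_assoc, ← mul_assoc]
      rw [show tC * tC = 1 from Subtype.ext tE_sq, one_mul]

end Cfsg.Agent.Co3Rec.Std
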