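import Cfsg.Agent.Co3Rec.Std.Main
import Cfsg.Agent.Co3Rec.Cover
import Cfsg.Agent.AutPSp.Aut
import Cfsg.Agent.Invol.ZStar
import Cfsg.Prelude.Def_ClassificationK

/-!
A standard double cover of Sp6(2) in a simple group with trivial cores of involution centralisers
is the centraliser of an involution.
-/

set_option autoImplicit false
set_option maxHeartbeats 400000

namespace Cfsg.Agent.Co3Rec.Std

open Subgroup
open scoped commutatorElement

/-- Symplectic matrices over isomorphic fields. -/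
def spRing {m : ℕ} {R S : Type*} [Field R] [Field S] (σ : R ≃+* S) :
    Matrix.symplecticGroup (Fin m) R ≃* Matrix.symplecticGroup (Fin m) S where
  toFun A := ⟨A.1.map σ, by
    have h := congrArg (fun M : Matrix _ _ R => M.map σ) (SymplecticGroup.mem_iff.1 A.2)
    rw [SymplecticGroup.mem_iff]
    simpa [Matrix.map_mul, Matrix.transpose_map, Matrix.J, Matrix.fromBlocks_map, Matrix.map_neg] using h⟩
  invFun A := ⟨A.1.map σ.symm, by
    have h := congrArg (fun M : Matrix _ _ S => M.map σ.symm) (SymplecticGroup.mem_iff.1 A.2)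
    rw [SymplecticGroup.mem_iff]
    simpa [Matrix.map_mul, Matrix.transpose_map, Matrix.J, Matrix.fromBlocks_map, Matrix.map_neg] using h⟩
  left_inv A := Subtype.ext (by ext i j; simp)
  right_inv A := Subtype.ext (by ext i j; simp)
  map_mul' A B := Subtype.ext (Matrix.map_mul)

theorem exists_psp_iso {F : Type*} [Field F] [Fintype F] (hF : Fintype.card F = 2) :
    Nonempty (Cfsg.PSp 3 F ≃* Sp) := by
  have h1 : Subgroup.center (Matrix.symplecticGroup (Fin 3) F) = ⊥ := by
    apply Subgroup.eq_bot_of_card_eq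
    rw [Cfsg.Agent.Classical.card_center_symplectic (by norm_num), hF]
    rfl
  exact ⟨((QuotientGroup.quotientMulEquivOfEq h1).trans QuotientGroup.quotientBot).trans
    (spRing (ZMod.ringEquivOfPrime F Nat.prime_two hF)).symm⟩

/-- All automorphisms of Sp6(2) are inner. -/
theorem psp_aut_inner {F : Type*} [Field F] [Fintype F] (hF : Fintype.card F = 2)
    (β : MulAut (Cfsg.PSp 3 F)) : ∃ g, MulAut.conj g = β := by
  classical
  have : Fact (Nat.Prime 2) := ⟨Nat.prime_two⟩
  have : CharP F 2 := charP_of_card_eq_prime_pow (p := 2) (f := 1) (by rw [hF, pow_one])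
  have hsub : ∀ σ : F ≃+* F, σ = RingEquiv.refl F := fun σ => by
    ext x
    have h2 : ∀ y : F, y = 0 ∨ y = 1 := fun y => by
      by_contra hy
      rw [not_or] at hy
      have : ({0, 1, y} : Finset F).card = 3 := by
        rw [Finset.card_insert_of_notMem (by simp [Ne.symm hy.1]), Finset.card_pair (Ne.symm hy.2)]
      have := Finset.card_le_univ ({0, 1, y} : Finset F)
      omega
    rcases h2 x with rfl | rfl <;> simp
  have h1 : Nat.card (F ≃+* F) = 1 :=
    Nat.card_eq_one_iff_unique.mpr ⟨⟨fun a b => (hsub a).trans (hsub b).symm⟩, ⟨RingEquiv.refl F⟩⟩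
  have hcard : Nat.card (MulAut (Cfsg.PSp 3 F)) = Nat.card (Cfsg.PSp 3 F) := by
    rw [AutPSp.card_mulAut 2 (by norm_num), AutPSp.index_inndiag 2 (by norm_num) (by norm_num), h1,
      Nat.card_eq_fintype_card, hF]
    simp
  have hcen : Subgroup.center (Cfsg.PSp 3 F) = ⊥ := by
    obtain ⟨e⟩ := exists_psp_iso hF
    exact Subgroup.eq_bot_of_card_eq _ (by rw [Nat.card_congr (Subgroup.centerCongr e).toEquiv, center_Sp, Subgroup.card_bot])
  have hinj : Function.Injective (MulAut.conj : Cfsg.PSp 3 F →* MulAut (Cfsg.PSp 3 F)) := by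
    intro a b h
    have hmem : b⁻¹ * a ∈ Subgroup.center (Cfsg.PSp 3 F) := Subgroup.mem_center_iff.mpr fun x => by
      have e := DFunLike.congr_fun h x
      simp only [MulAut.conj_apply] at e
      calc x * (b⁻¹ * a) = b⁻¹ * (b * x * b⁻¹) * a := by group
        _ = _ := by rw [← e]; group
    rw [hcen, Subgroup.mem_bot] at hmem
    exact (inv_mul_eq_one.mp hmem).symm
  exact ((Nat.bijective_iff_injective_and_card _).mpr ⟨hinj, hcard.symm⟩).2 β

variable {G : Type*} [Group G]

/-- An element moving every element of a perfect subgroup by a central one centralises it. -/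
theorem mem_centralizer_of_central_moves {L : Subgroup G} (hp : commutator L = ⊤) {h : G}
    (hh : ∀ x : L, ∃ c ∈ Subgroup.center L, h * (x : G) * h⁻¹ = (c : G) * x) :
    h ∈ Subgroup.centralizer (L : Set G) := by
  choose c hc e using hh
  let f : L →* Subgroup.center L := MonoidHom.mk' (fun x => ⟨c x, hc x⟩) fun x y => by
    refine Subtype.ext (Subtype.ext ?_)
    show (c (x * y) : G) = (c x : G) * (c y : G)
    have h1 := e (x * y)
    rw [Subgroup.coe_mul, show h * ((x : G) * y) * h⁻¹ = h * x * h⁻¹ * (h * y * h⁻¹) by group, e x, e y] at h1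
    have hcom : (c y : G) * x = x * c y := congrArg Subtype.val (Subgroup.mem_center_iff.mp (hc y) x).symm
    apply mul_right_cancel (b := (x : G) * y)
    rw [← h1]
    calc (c x : G) * x * ((c y : G) * y) = (c x : G) * ((x : G) * c y) * y := by group
      _ = _ := by rw [← hcom]; group
  have : IsMulCommutative (Subgroup.center L) :=
    ⟨⟨fun a b => Subtype.ext (Subgroup.mem_center_iff.mp b.2 a)⟩⟩
  have hf : commutator L ≤ f.ker := by
    rw [_root_.commutator_def, Subgroup.commutator_le]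
    intro a _ b _
    rw [MonoidHom.mem_ker, map_commutatorElement, commutatorElement_eq_one_iff_mul_comm]
    exact IsMulCommutative.is_comm.comm _ _
  rw [hp] at hf
  refine Subgroup.mem_centralizer_iff.mpr fun x hx => ?_
  have h1 : c ⟨x, hx⟩ = 1 := congrArg Subtype.val (MonoidHom.mem_ker.mp (hf (Subgroup.mem_top (⟨x, hx⟩ : L))))
  have := e ⟨x, hx⟩
  rw [h1, Subgroup.coe_one, one_mul] at this
  exact (mul_inv_eq_iff_eq_mul.mp this).symm

/-- Elements normalising the double cover induce inner automorphisms. -/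
theorem exists_inner {F : Type*} [Field F] [Fintype F] (hF : Fintype.card F = 2) {L : Subgroup G}
    (hp : commutator L = ⊤) (eZ : L ⧸ Subgroup.center L ≃* Cfsg.PSp 3 F) {g : G}
    (hg : g ∈ Subgroup.normalizer (L : Set G)) :
    ∃ l : L, (l : G)⁻¹ * g ∈ Subgroup.centralizer (L : Set G) := by
  have hn := Subgroup.mem_normalizer_iff.mp hg
  let α : L ≃* L :=
    { toFun := fun x => ⟨g * x * g⁻¹, (hn x).mp x.2⟩
      invFun := fun x => ⟨g⁻¹ * x * g, (hn _).mpr (by rw [show g * (g⁻¹ * x * g) * g⁻¹ = (x : G) by group]; exact x.2)⟩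
      left_inv := fun x => Subtype.ext (by simp [mul_assoc])
      right_inv := fun x => Subtype.ext (by simp [mul_assoc])
      map_mul' := fun x y => Subtype.ext (by simp [mul_assoc]) }
  have hmap : (Subgroup.center L).map (α : L →* L) = Subgroup.center L := by
    ext x
    constructor
    · rintro ⟨y, hy, rfl⟩
      refine Subgroup.mem_center_iff.mpr fun w => ?_
      obtain ⟨v, rfl⟩ := α.surjective w
      show α v * α y = α y * α v
      rw [← map_mul, ← map_mul, Subgroup.mem_center_iff.mp hy v]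
    · intro hx
      refine ⟨α.symm x, Subgroup.mem_center_iff.mpr fun w => α.injective ?_, α.apply_symm_apply x⟩
      rw [map_mul, map_mul, α.apply_symm_apply, Subgroup.mem_center_iff.mp hx (α w)]
  let β : MulAut (L ⧸ Subgroup.center L) := QuotientGroup.congr _ _ α hmap
  obtain ⟨p, hp'⟩ := psp_aut_inner hF ((eZ.symm.trans β).trans eZ)
  obtain ⟨l, hl⟩ := QuotientGroup.mk_surjective (eZ.symm p)
  refine ⟨l, mem_centralizer_of_central_moves hp fun x => ?_⟩
  have h1 : (QuotientGroup.mk (α x) : L ⧸ Subgroup.center L) = QuotientGroup.mk (l * x * l⁻¹) := by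
    have h2 := DFunLike.congr_fun hp' (eZ (QuotientGroup.mk x))
    simp only [MulAut.conj_apply, MulEquiv.trans_apply, MulEquiv.symm_apply_apply] at h2
    have h3 := congrArg eZ.symm h2
    rw [map_mul, map_mul, map_inv, eZ.symm_apply_apply, eZ.symm_apply_apply, ← hl] at h3
    rw [QuotientGroup.mk_mul, QuotientGroup.mk_mul, QuotientGroup.mk_inv, h3]
    rfl
  rw [QuotientGroup.eq] at h1
  refine ⟨l⁻¹ * ((α x) * (l * x⁻¹ * l⁻¹)) * l, ?_, ?_⟩
  · have e : α x * (l * x⁻¹ * l⁻¹) = α x * ((α x)⁻¹ * (l * x * l⁻¹))⁻¹ * (α x)⁻¹ := by group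
    rw [e]
    exact Subgroup.Normal.conj_mem' inferInstance _ (Subgroup.Normal.conj_mem inferInstance _ (inv_mem h1) _) _
  · simp only [Subgroup.coe_mul, Subgroup.coe_inv, α, MulEquiv.coe_mk, Equiv.coe_fn_mk]
    group

theorem le_of_quasi {L L' : Subgroup G} (hq : Cfsg.IsQuasisimple L)
    (h1 : L ≤ Subgroup.normalizer (L' : Set G)) (h2 : L' ≤ Subgroup.normalizer (L : Set G)) :
    L ≤ L' ∨ ⁅L, L'⁆ = ⊥ := by
  obtain ⟨hperf, hsimp⟩ := hq
  have hp : commutator L = ⊤ := hperf.commutator_eq_top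
  let M : Subgroup L := L'.subgroupOf L
  have hMn : M.Normal := ⟨fun m hm x => by
    exact (Subgroup.mem_normalizer_iff.mp (h1 x.2) m).mp hm⟩
  rcases Subgroup.Normal.eq_bot_or_eq_top (Subgroup.Normal.map hMn (QuotientGroup.mk' (Subgroup.center L))
    (QuotientGroup.mk'_surjective _)) with h | h
  · right
    rw [Subgroup.commutator_comm, Subgroup.commutator_eq_bot_iff_le_centralizer]
    intro b hb
    refine mem_centralizer_of_central_moves hp fun x => ?_
    have hL : b * (x : G) * b⁻¹ * (x : G)⁻¹ ∈ L :=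
      mul_mem ((Subgroup.mem_normalizer_iff.mp (h2 hb) x).mp x.2) (inv_mem x.2)
    have hL' : b * (x : G) * b⁻¹ * (x : G)⁻¹ ∈ L' := by
      rw [show b * (x : G) * b⁻¹ * (x : G)⁻¹ = b * ((x : G) * b⁻¹ * (x : G)⁻¹) by group]
      exact mul_mem hb ((Subgroup.mem_normalizer_iff.mp (h1 x.2) _).mp (inv_mem hb))
    refine ⟨⟨_, hL⟩, ?_, ?_⟩
    · have hm : QuotientGroup.mk' (Subgroup.center L) ⟨_, hL⟩ ∈ M.map (QuotientGroup.mk' (Subgroup.center L)) :=
        Subgroup.mem_map_of_mem _ hL'
      rw [h, Subgroup.mem_bot] at hm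
      exact (QuotientGroup.eq_one_iff _).mp hm
    · show b * (x : G) * b⁻¹ = b * (x : G) * b⁻¹ * (x : G)⁻¹ * x
      group
  · left
    have hdec : ∀ x : L, ∃ m ∈ M, ∃ c ∈ Subgroup.center L, x = m * c := fun x => by
      obtain ⟨m, hm, e⟩ := h.symm ▸ Subgroup.mem_top (QuotientGroup.mk' (Subgroup.center L) x)
      exact ⟨m, hm, m⁻¹ * x, QuotientGroup.eq.mp e, by group⟩
    have hM : commutator L ≤ M := by
      rw [_root_.commutator_def, Subgroup.commutator_le]
      intro a _ b _
      obtain ⟨m, hm, c, hc, rfl⟩ := hdec a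
      obtain ⟨m', hm', c', hc', rfl⟩ := hdec b
      have e1 : ⁅m * c, m' * c'⁆ = ⁅m, m'⁆ := by
        have k1 : ∀ y : L, c * y = y * c := fun y => (Subgroup.mem_center_iff.mp hc y).symm
        have k2 : ∀ y : L, c' * y = y * c' := fun y => (Subgroup.mem_center_iff.mp hc' y).symm
        simp only [commutatorElement_def, mul_inv_rev]
        calc m * c * (m' * c') * (c⁻¹ * m⁻¹) * (c'⁻¹ * m'⁻¹)
            = m * (c * (m' * c')) * c⁻¹ * m⁻¹ * c'⁻¹ * m'⁻¹ := by group
          _ = m * m' * (c' * m⁻¹) * c'⁻¹ * m'⁻¹ := by rw [k1]; group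
          _ = _ := by rw [k2]; group
      rw [e1, commutatorElement_def]
      exact mul_mem (mul_mem (mul_mem hm hm') (inv_mem hm)) (inv_mem hm')
    rw [hp] at hM
    intro x hx
    exact hM (Subgroup.mem_top (⟨x, hx⟩ : L))

/-- With one involution and no square root of it, the second factor is the centre. -/
theorem Cfgn.trivial_K [Finite G] (S : Cfgn G) {T : Cfgn G} (hpair : Pair S T)
    (hroot : ∀ x ∈ S.K, x * x ≠ S.z)
    (hord : orderOf S.z = 2) (hbal : Cfsg.centralizerPPrimeCore 2 S.z = ⊥) :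
    ∀ k ∈ S.K, k = 1 ∨ k = S.z := by
  classical
  have : Fact (Nat.Prime 2) := ⟨Nat.prime_two⟩
  obtain ⟨P⟩ : Nonempty (Sylow 2 S.K) := inferInstance
  have hPsq : ∀ p : S.K, p ∈ (P : Subgroup S.K) → p = 1 ∨ (p : G) = S.z := by
    intro p hp'
    obtain ⟨k, hk⟩ := P.isPGroup' ⟨p, hp'⟩
    have hk' : (p : G) ^ 2 ^ k = 1 := congrArg (fun w : (P : Subgroup S.K) => ((w : S.K) : G)) hk
    clear hk
    have key : ∀ n, ∀ q : G, q ∈ S.K → q ^ 2 ^ n = 1 → q = 1 ∨ q = S.z := by
      intro n
      induction n with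
      | zero => intro q _ h; left; simpa using h
      | succ n ih =>
        intro q hq' h
        rw [pow_succ', pow_mul] at h
        rcases ih (q ^ 2) (pow_mem hq' 2) h with h' | h'
        · by_cases hq1 : q = 1
          · exact Or.inl hq1
          · exact Or.inr (hpair.unique_involution hq' (by rw [← pow_two, h']) hq1)
        · exact absurd (by rw [← pow_two, h']) (hroot q hq')
    exact (key k p p.2 hk').imp_left fun h => Subtype.ext h
  have hPc : Subgroup.normalizer ((P : Subgroup S.K) : Set S.K) ≤ Subgroup.centralizer ((P : Subgroup S.K) : Set S.K) := by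
    intro h _
    refine Subgroup.mem_centralizer_iff.mpr fun p hp' => ?_
    rcases hPsq p hp' with rfl | h'
    · simp
    · refine Subtype.ext ?_
      show (p : G) * (h : G) = (h : G) * (p : G)
      rw [h']; exact (S.K_z h.2).symm
  obtain ⟨N, hNn, hcompl⟩ : ∃ N : Subgroup S.K, N.Normal ∧ Subgroup.IsComplement' N (P : Subgroup S.K) :=
    ⟨_, inferInstance, MonoidHom.ker_transferSylow_isComplement' P hPc⟩
  set C := Subgroup.centralizer ({S.z} : Set G)
  have hKC : S.K ≤ C := fun k hk => Subgroup.mem_centralizer_singleton_iff.mpr (S.K_z hk)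
  have hN' : N = ⊥ := by
    let N' : Subgroup G := N.map S.K.subtype
    have hNK : N' ≤ C := (Subgroup.map_subtype_le N).trans hKC
    have hnor : (N'.subgroupOf C).Normal := ⟨fun n hn c => by
      obtain ⟨l, k, hk, hc⟩ := S.decomp c (Subgroup.mem_centralizer_singleton_iff.mp c.2)
      obtain ⟨m, hm, hmn⟩ := Subgroup.mem_subgroupOf.mp hn
      refine Subgroup.mem_subgroupOf.mpr ⟨⟨k, hk⟩ * m * ⟨k, hk⟩⁻¹,
        hNn.conj_mem m hm _, ?_⟩
      have hh : ((⟨k, hk⟩ * m * ⟨k, hk⟩⁻¹ : S.K) : G) = k * (m : G) * k⁻¹ := rfl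
      have hcm := (S.mem_K _).mp (⟨k, hk⟩ * m * ⟨k, hk⟩⁻¹ : S.K).2 l
      rw [hh] at hcm
      show k * (m : G) * k⁻¹ = (c : G) * (n : G) * (c : G)⁻¹
      rw [hc, ← hmn]
      show k * (m : G) * k⁻¹ = S.φ l * k * (m : G) * (S.φ l * k)⁻¹
      calc k * (m : G) * k⁻¹ = k * (m : G) * k⁻¹ * S.φ l * (S.φ l)⁻¹ := by group
        _ = _ := by rw [hcm]; group⟩
    have hcop : (Nat.card (N'.subgroupOf C)).Coprime 2 := by
      rw [Nat.card_congr (Subgroup.subgroupOfEquivOfLe hNK).toEquiv,
        Subgroup.card_map_of_injective S.K.subtype_injective, ← hcompl.index_eq_card, Nat.coprime_comm,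
        Nat.prime_two.coprime_iff_not_dvd]
      exact P.not_dvd_index
    have hle : N'.subgroupOf C ≤ Cfsg.pPrimeCore 2 C := le_sSup ⟨hnor, hcop⟩
    have hbot := hbal
    rw [Cfsg.centralizerPPrimeCore, Subgroup.map_eq_bot_iff_of_injective _ (Subgroup.subtype_injective _)] at hbot
    rw [hbot, le_bot_iff, Subgroup.subgroupOf_eq_bot, disjoint_of_le_iff_left_eq_bot hNK,
      Subgroup.map_eq_bot_iff_of_injective _ S.K.subtype_injective] at hle
    exact hle
  have hKz : ∀ k ∈ S.K, k = 1 ∨ k = S.z := by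
    intro k hk
    have hP : (P : Subgroup S.K) = ⊤ := by
      rw [hN'] at hcompl
      exact Subgroup.isComplement'_bot_left.mp hcompl
    rcases hPsq ⟨k, hk⟩ (hP.symm ▸ Subgroup.mem_top _) with h | h
    · exact Or.inl (congrArg Subtype.val h)
    · exact Or.inr h
  exact hKz

/-- A standard double cover of Sp6(2) is the centraliser of its involution. -/
theorem exists_centralizer_iso [Finite G] [IsSimpleGroup G] (hG : ¬ IsMulCommutative G)
    (hbal : ∀ t : G, orderOf t = 2 → Cfsg.centralizerPPrimeCore 2 t = ⊥)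
    (L : Subgroup G) (hL : Cfsg.IsStandardSubgroup L) {F : Type*} [Field F] [Fintype F]
    (hF : Fintype.card F = 2) (hc2 : Nat.card (Subgroup.center L) = 2)
    (eZ : L ⧸ Subgroup.center L ≃* Cfsg.PSp 3 F) :
    ∃ z : G, orderOf z = 2 ∧ Cfsg.oddCore G = ⊥ ∧ Subgroup.center G = ⊥ ∧
      Cfsg.IsNonsplitDoubleCover (Subgroup.centralizer ({z} : Set G))
        (Matrix.symplecticGroup (Fin 3) (ZMod 2)) := by
  classical
  have : Fact (Nat.Prime 2) := ⟨Nat.prime_two⟩
  obtain ⟨hq, htight, hcomm, hnorm⟩ := hL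
  have hp : commutator L = ⊤ := hq.1.commutator_eq_top
  obtain ⟨eS⟩ := exists_psp_iso hF
  have hnsd : Cfsg.IsNonsplitDoubleCover L Sp := by
    refine ⟨hc2, ⟨eZ.trans eS⟩, fun M hM => ?_⟩
    have hle : commutator L ≤ M := by
      rw [_root_.commutator_def, Subgroup.commutator_le]
      intro a _ b _
      obtain ⟨⟨c, m⟩, rfl⟩ := hM.2 a
      obtain ⟨⟨c', m'⟩, rfl⟩ := hM.2 b
      have k1 : ∀ y : L, (c : L) * y = y * c := fun y => (Subgroup.mem_center_iff.mp c.2 y).symm
      have k2 : ∀ y : L, (c' : L) * y = y * c' := fun y => (Subgroup.mem_center_iff.mp c'.2 y).symm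
      have e1 : ⁅(c : L) * m, (c' : L) * m'⁆ = ⁅(m : L), (m' : L)⁆ := by
        simp only [commutatorElement_def, mul_inv_rev]
        calc (c : L) * m * ((c' : L) * m') * ((m : L)⁻¹ * (c : L)⁻¹) * ((m' : L)⁻¹ * (c' : L)⁻¹)
            = (c : L) * ((m : L) * c' * m' * (m : L)⁻¹) * (c : L)⁻¹ * (m' : L)⁻¹ * (c' : L)⁻¹ := by group
          _ = (m : L) * c' * m' * (m : L)⁻¹ * (m' : L)⁻¹ * (c' : L)⁻¹ := by rw [k1]; group
          _ = (c' : L) * ((m : L) * m' * (m : L)⁻¹ * (m' : L)⁻¹) * (c' : L)⁻¹ := by rw [← k2 m]; group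
          _ = _ := by rw [k2]; group
      rw [e1, commutatorElement_def]
      exact mul_mem (mul_mem (mul_mem m.2 m'.2) (inv_mem m.2)) (inv_mem m'.2)
    rw [hp, top_le_iff] at hle
    subst hle
    rw [Subgroup.isComplement'_top_right] at hM
    rw [hM, Subgroup.card_bot] at hc2
    norm_num at hc2
  obtain ⟨e⟩ := cover_iso hnsd
  let φ : C0 →* G := L.subtype.comp e.toMonoidHom
  have hφinj : Function.Injective φ := L.subtype_injective.comp e.injective
  obtain ⟨z, hz⟩ : ∃ z, z = φ tC := ⟨_, rfl⟩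
  set K := Subgroup.centralizer (L : Set G) with hKdef
  have hmemK : ∀ g : G, g ∈ K ↔ ∀ x : C0, g * φ x = φ x * g := fun g => by
    rw [hKdef, Subgroup.mem_centralizer_iff]
    refine ⟨fun h x => (h _ (e x).2).symm, fun h y hy => ?_⟩
    obtain ⟨x, hx⟩ := e.surjective ⟨y, hy⟩
    have := h x
    simp only [φ, MonoidHom.comp_apply, MulEquiv.coe_toMonoidHom, Subgroup.coe_subtype, hx] at this
    exact this.symm
  have hzL : z ∈ L := hz ▸ (e tC).2
  have hnz : ∀ g ∈ Subgroup.normalizer (L : Set G), g * z = z * g := by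
    intro g hg
    have hn := Subgroup.mem_normalizer_iff.mp hg
    obtain ⟨y, hy⟩ := e.surjective ⟨g * z * g⁻¹, (hn z).mp hzL⟩
    have hy' : φ y = g * z * g⁻¹ := congrArg Subtype.val hy
    have hyc : y ∈ Subgroup.center C0 := Subgroup.mem_center_iff.mpr fun x => by
      refine hφinj ?_
      rw [map_mul, map_mul, hy']
      have hx : g⁻¹ * φ x * g ∈ L := (hn _).mpr (by rw [show g * (g⁻¹ * φ x * g) * g⁻¹ = φ x by group]; exact (e x).2)
      obtain ⟨w, hw⟩ := e.surjective ⟨_, hx⟩
      have hw' : φ w = g⁻¹ * φ x * g := congrArg Subtype.val hw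
      have hwz : φ w * z = z * φ w := by
        rw [hz, ← map_mul, ← map_mul, Subgroup.mem_center_iff.mp tC_center w]
      rw [hw'] at hwz
      calc φ x * (g * z * g⁻¹) = g * (g⁻¹ * φ x * g * z) * g⁻¹ := by group
        _ = _ := by rw [hwz]; group
    rw [center_C0] at hyc
    rcases mem_zpowers_tC.mp hyc with rfl | rfl
    · exfalso
      rw [map_one] at hy'
      exact tC_ne_one (hφinj (by rw [map_one, ← hz]; exact conj_eq_one_iff.mp hy'.symm))
    · exact mul_inv_eq_iff_eq_mul.mp (hy'.symm.trans hz.symm)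
  have htN : ∀ j ∈ K, j * j = 1 → j ≠ 1 → ∀ g : G, g * j = j * g → g ∈ Subgroup.normalizer (L : Set G) := by
    intro j hj h2 h1 g hg
    rw [hnorm]
    by_contra hn
    refine (Nat.not_even_iff_odd.mpr (htight.2 g hn)) (even_iff_two_dvd.mpr ?_)
    have hj' : j ∈ K ⊓ K.map (MulAut.conj g).toMonoidHom :=
      ⟨hj, j, hj, by simp [MulAut.conj_apply, hg]⟩
    rw [← orderOf_eq_prime (p := 2) (by rw [pow_two, h2]) h1, ← Nat.card_zpowers]
    exact Subgroup.card_dvd_of_le (Subgroup.zpowers_le.mpr hj')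
  have hzK : z ∈ K := (hmemK z).mpr fun x => by
    rw [hz, ← map_mul, ← map_mul, Subgroup.mem_center_iff.mp tC_center x]
  have hz2 : z * z = 1 := by rw [hz, ← map_mul, tC_sq, map_one]
  have hz1 : z ≠ 1 := fun h => tC_ne_one (hφinj ((hz.symm.trans h).trans φ.map_one.symm))
  let S : Cfgn G :=
    { φ := φ, inj := hφinj, z := z, z_eq := hz.symm, K := K, mem_K := hmemK
      decomp := fun g hg => by
        obtain ⟨l, hl⟩ := exists_inner hF hp eZ (htN z hzK hz2 hz1 g hg)
        obtain ⟨x, hx⟩ := e.surjective l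
        refine ⟨x, _, hl, ?_⟩
        simp [φ, hx]
      small := fun j hj h2 h1 g hg => hnz g (htN j hj h2 h1 g hg) }
  have huniq : ∀ g : G, g * z * g⁻¹ ∈ K → g * z * g⁻¹ = z := by
    intro g hj
    set j := g * z * g⁻¹ with hjdef
    have hj2 : j * j = 1 := by rw [hjdef]; calc _ = g * (z * z) * g⁻¹ := by group
                                         _ = 1 := by rw [hz2]; group
    have hj1 : j ≠ 1 := fun h => hz1 (conj_eq_one_iff.mp h)
    have hcz : ∀ h : G, h * z = z * h → (g * h * g⁻¹) * j = j * (g * h * g⁻¹) := fun h hh => by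
      rw [hjdef]
      calc g * h * g⁻¹ * (g * z * g⁻¹) = g * (h * z) * g⁻¹ := by group
        _ = _ := by rw [hh]; group
    set L' := L.map (MulAut.conj g).toMonoidHom with hL'def
    have hLz : ∀ y ∈ L, y * z = z * y := fun y hy => hnz y (Subgroup.le_normalizer hy)
    have h2 : L' ≤ Subgroup.normalizer (L : Set G) := by
      rintro _ ⟨y, hy, rfl⟩
      exact htN j hj hj2 hj1 _ (hcz y (hLz y hy))
    have hzn : ∀ h : G, h * z = z * h → h ∈ Subgroup.normalizer (L : Set G) := htN z hzK hz2 hz1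
    have h1 : L ≤ Subgroup.normalizer (L' : Set G) := by
      intro y hy
      obtain ⟨x, hx⟩ := e.surjective ⟨y, hy⟩
      have hyj : y * j = j * y := by
        have := (hmemK j).mp hj x
        simp only [φ, MonoidHom.comp_apply, MulEquiv.coe_toMonoidHom, Subgroup.coe_subtype, hx] at this
        exact this.symm
      have hmem := hzn (g⁻¹ * y * g) (by
        rw [hjdef] at hyj
        calc g⁻¹ * y * g * z = g⁻¹ * (y * (g * z * g⁻¹)) * g := by group
          _ = _ := by rw [hyj]; group)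
      refine Subgroup.mem_normalizer_iff.mpr fun w => ?_
      rw [hL'def, Subgroup.mem_map_equiv, Subgroup.mem_map_equiv, MulAut.conj_symm_apply, MulAut.conj_symm_apply,
        Subgroup.mem_normalizer_iff.mp hmem (g⁻¹ * w * g)]
      rw [show g⁻¹ * y * g * (g⁻¹ * w * g) * (g⁻¹ * y * g)⁻¹ = g⁻¹ * (y * w * y⁻¹) * g by group]
    rcases le_of_quasi hq h1 h2 with h | h
    · have he : L = L' := Subgroup.eq_of_le_of_card_ge h
        (by rw [hL'def, Subgroup.card_map_of_injective (MulAut.conj g).injective])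
      have hgN : g ∈ Subgroup.normalizer (L : Set G) := by
        refine Subgroup.mem_normalizer_iff.mpr fun w => ⟨fun hw => ?_, fun hw => ?_⟩
        · rw [he]; exact ⟨w, hw, rfl⟩
        · rw [he, hL'def] at hw
          obtain ⟨v, hv, hvw⟩ := hw
          exact ((MulAut.conj g).injective hvw) ▸ hv
      rw [hjdef, hnz g hgN, mul_inv_cancel_right]
    · exfalso
      refine hcomm g (fun he => ?_) h
      rw [hL'def, he, Subgroup.commutator_eq_bot_iff_le_centralizer] at h
      have hzc : ∀ y : L, y ∈ Subgroup.center L := fun y =>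
        Subgroup.mem_center_iff.mpr fun w => Subtype.ext (Subgroup.mem_centralizer_iff.mp (h y.2) w w.2)
      have := Nat.card_congr (Subgroup.topEquiv (G := L)).toEquiv
      rw [← (Subgroup.eq_top_iff' _).mpr hzc, hc2, ← Nat.card_congr e.toEquiv, card_C0] at this
      norm_num at this
  have hcen : Subgroup.center G = ⊥ := by
    rcases Subgroup.Normal.eq_bot_or_eq_top (inferInstance : (Subgroup.center G).Normal) with h | h
    · exact h
    · exact absurd ⟨⟨fun a b => Subgroup.mem_center_iff.mp (h.symm ▸ Subgroup.mem_top b) a⟩⟩ hG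
  have hordz : orderOf z = 2 := orderOf_eq_prime (by rw [pow_two, hz2]) hz1
  have hodd : Cfsg.oddCore G = ⊥ := by
    refine le_bot_iff.mp (sSup_le ?_)
    rintro N ⟨hN, hc⟩
    rcases hN.eq_bot_or_eq_top with h | h
    · exact h.le
    · exfalso
      rw [h, Subgroup.card_top] at hc
      exact (Nat.prime_two.coprime_iff_not_dvd.mp hc.symm) (hordz ▸ orderOf_dvd_natCard z)
  obtain ⟨g, hgc, hgne⟩ : ∃ g : G, Commute z (g * z * g⁻¹) ∧ g * z * g⁻¹ ≠ z := by
    by_contra hcon
    push_neg at hcon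
    refine hz1 ((Subgroup.eq_bot_iff_forall _).mp hcen z (Subgroup.mem_center_iff.mpr fun g => ?_))
    have := Invol.zstar (show Cfsg.IsIsolatedInvolution z from ⟨hordz, hcon⟩) g
    rw [hodd, Subgroup.mem_bot] at this
    calc g * z = z * g * z⁻¹ * g⁻¹ * (g * z) := by rw [this, one_mul]
      _ = _ := by group
  have hpair : Pair S (S.conj g) := by
    refine ⟨hgc.eq.symm, fun h => hgne (huniq g h), ?_⟩
    rintro ⟨y, hy, hyz⟩
    replace hyz : g * y * g⁻¹ = z := hyz
    have hy' : y = g⁻¹ * z * g⁻¹⁻¹ := by rw [← hyz]; group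
    have := huniq g⁻¹ (hy' ▸ hy)
    rw [← hy'] at this
    exact hgne (this ▸ hyz)
  have hroot : ∀ x ∈ K, x * x ≠ z := fun x hx hxx =>
    hpair.no_root hx hxx (x' := g * x * g⁻¹) ⟨x, hx, rfl⟩ (by
      show g * x * g⁻¹ * (g * x * g⁻¹) = g * z * g⁻¹
      rw [← hxx]; group)
  have hKz : ∀ k ∈ K, k = 1 ∨ k = z := S.trivial_K hpair hroot hordz (hbal z hordz)
  refine ⟨z, hordz, hodd, hcen, ?_⟩
  set C := Subgroup.centralizer ({z} : Set G)
  have hCL : C = L := by
    refine le_antisymm (fun c hc => ?_) (fun y hy => Subgroup.mem_centralizer_singleton_iff.mpr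
      (hnz y (Subgroup.le_normalizer hy)))
    obtain ⟨l, k, hk, hc'⟩ := S.decomp c (Subgroup.mem_centralizer_singleton_iff.mp hc)
    rw [hc']
    refine mul_mem (e l).2 ?_
    rcases hKz k hk with rfl | rfl
    exacts [one_mem _, hzL]
  show Cfsg.IsNonsplitDoubleCover C Sp
  rw [hCL]
  exact hnsd

end Cfsg.Agent.Co3Rec.Std
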