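import Cfsg.Agent.Co3Rec.Std.FactsA
import Mathlib.GroupTheory.Transfer

/-!
A double cover of Sp6(2) inside the centraliser of an involution, centralised by a subgroup whose
involutions have centralisers inside it: conjugates of the involution in the centraliser force the
second factor down to the centre.
-/

set_option autoImplicit false

namespace Cfsg.Agent.Co3Rec.Std

open Subgroup

theorem tC_sq : tC * tC = (1 : C0) := Subtype.ext tE_sq

theorem tC_ne_one : tC ≠ (1 : C0) := fun h => tE_ne_one (congrArg Subtype.val h)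

theorem mem_zpowers_tC {a : C0} : a ∈ zpowers tC ↔ a = 1 ∨ a = tC := by
  constructor
  · rintro ⟨n, rfl⟩
    rcases Int.even_or_odd n with ⟨m, rfl⟩ | ⟨m, rfl⟩
    · left
      simp only []
      rw [← two_mul, zpow_mul, zpow_ofNat, pow_two, tC_sq, one_zpow]
    · right
      simp only []
      rw [zpow_add, zpow_mul, zpow_ofNat, pow_two, tC_sq, one_zpow, one_mul, zpow_one]
  · rintro (rfl | rfl)
    exacts [one_mem _, mem_zpowers _]

variable {G : Type*} [Group G]

/-- The configuration. -/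
structure Cfgn (G : Type*) [Group G] where
  /-- the embedding of the double cover -/
  φ : C0 →* G
  inj : Function.Injective φ
  /-- the involution -/
  z : G
  z_eq : φ tC = z
  /-- the second factor -/
  K : Subgroup G
  mem_K : ∀ g : G, g ∈ K ↔ ∀ x : C0, g * φ x = φ x * g
  decomp : ∀ g : G, g * z = z * g → ∃ l : C0, ∃ k ∈ K, g = φ l * k
  small : ∀ j ∈ K, j * j = 1 → j ≠ 1 → ∀ g : G, g * j = j * g → g * z = z * g

namespace Cfgn

variable (S : Cfgn G)

theorem z_sq : S.z * S.z = 1 := by rw [← S.z_eq, ← map_mul, tC_sq, map_one]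

theorem z_ne_one : S.z ≠ 1 := fun h => tC_ne_one (S.inj (by rw [S.z_eq, h, map_one]))

theorem K_comm {k : G} (hk : k ∈ S.K) (x : C0) : k * S.φ x = S.φ x * k := (S.mem_K k).mp hk x

theorem z_mem : S.z ∈ S.K := (S.mem_K _).mpr fun x => by
  rw [← S.z_eq, ← map_mul, ← map_mul, Subgroup.mem_center_iff.mp tC_center x]

theorem φ_z (x : C0) : S.φ x * S.z = S.z * S.φ x := (S.K_comm S.z_mem x).symm

theorem K_z {k : G} (hk : k ∈ S.K) : k * S.z = S.z * k := by rw [← S.z_eq]; exact S.K_comm hk tC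

theorem mem_zpowers_of {a : C0} (h : S.φ a ∈ S.K) : a ∈ zpowers tC := by
  rw [← center_C0, mem_center_iff]
  exact fun x => (S.inj (by rw [map_mul, map_mul]; exact S.K_comm h x)).symm

theorem φ_mem_K {a : C0} (h : a ∈ zpowers tC) : S.φ a ∈ S.K := by
  rcases mem_zpowers_tC.mp h with rfl | rfl
  · rw [map_one]; exact one_mem _
  · rw [S.z_eq]; exact S.z_mem

theorem comm_cancel {a c : C0} {d : G} (hd : d ∈ S.K)
    (h : S.φ a * (S.φ c * d) = S.φ c * d * S.φ a) : a * c = c * a := by
  apply S.inj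
  rw [map_mul, map_mul]
  rw [mul_assoc (S.φ c) d, S.K_comm hd a, ← mul_assoc, ← mul_assoc] at h
  exact mul_right_cancel h

theorem φ_commutes_prod {a c : C0} {d : G} (hd : d ∈ S.K) (h : a * c = c * a) :
    S.φ a * (S.φ c * d) = S.φ c * d * S.φ a := by
  rw [mul_assoc (S.φ c) d, S.K_comm hd a, ← mul_assoc, ← mul_assoc, ← map_mul, ← map_mul, h]

theorem prod_mul {a c : C0} {b d : G} (hb : b ∈ S.K) :
    S.φ a * b * (S.φ c * d) = S.φ (a * c) * (b * d) := by
  rw [map_mul, mul_assoc, ← mul_assoc b, S.K_comm hb c]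
  group

theorem unique_dec {a c : C0} {b d : G} (hb : b ∈ S.K) (hd : d ∈ S.K) (h : S.φ a * b = S.φ c * d) :
    c⁻¹ * a ∈ zpowers tC := by
  refine S.mem_zpowers_of ?_
  have e : S.φ (c⁻¹ * a) = d * b⁻¹ := by
    rw [map_mul, map_inv]
    calc (S.φ c)⁻¹ * S.φ a = (S.φ c)⁻¹ * (S.φ a * b) * b⁻¹ := by group
      _ = _ := by rw [h]; group
  rw [e]; exact mul_mem hd (inv_mem hb)

theorem sq_dec {a : C0} {b : G} (hb : b ∈ S.K) : S.φ a * b * (S.φ a * b) = S.φ (a * a) * (b * b) :=
  S.prod_mul hb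

theorem square_cases {l : C0} {k : G} (hk : k ∈ S.K) (h : S.φ l * k * (S.φ l * k) = 1) :
    l * l ∈ zpowers tC ∧ k * k = (S.φ (l * l))⁻¹ := by
  rw [S.sq_dec hk] at h
  refine ⟨?_, eq_inv_of_mul_eq_one_right h⟩
  simpa using S.unique_dec (a := l * l) (c := 1) (mul_mem hk hk) (one_mem _) (by rw [h]; simp)

/-- The component of an element of the centraliser, modulo the centre. -/
theorem exists_component (g : Subgroup.centralizer ({S.z} : Set G)) :
    ∃ l : C0, ∃ k ∈ S.K, (g : G) = S.φ l * k :=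
  S.decomp g (Subgroup.mem_centralizer_singleton_iff.mp g.2)

/-- The projection of the centraliser. -/
noncomputable def proj : Subgroup.centralizer ({S.z} : Set G) →* C0 ⧸ Subgroup.center C0 :=
  MonoidHom.mk' (fun g => QuotientGroup.mk (S.exists_component g).choose) fun g h => by
    obtain ⟨kg, hkg, eg⟩ := (S.exists_component g).choose_spec
    obtain ⟨kh, hkh, eh⟩ := (S.exists_component h).choose_spec
    obtain ⟨kp, hkp, ep⟩ := (S.exists_component (g * h)).choose_spec
    have ep' := (S.prod_mul hkg).symm.trans ((congrArg₂ (· * ·) eg eh).symm.trans ep)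
    show (QuotientGroup.mk _ : C0 ⧸ Subgroup.center C0) = QuotientGroup.mk _ * QuotientGroup.mk _
    rw [← QuotientGroup.mk_mul, QuotientGroup.eq, center_C0]
    exact S.unique_dec (mul_mem hkg hkh) hkp ep'

theorem proj_spec (g : Subgroup.centralizer ({S.z} : Set G)) {a : C0} {b : G} (hb : b ∈ S.K)
    (h : (g : G) = S.φ a * b) : S.proj g = QuotientGroup.mk a := by
  obtain ⟨kg, hkg, eg⟩ := (S.exists_component g).choose_spec
  show (QuotientGroup.mk _ : C0 ⧸ Subgroup.center C0) = _
  rw [QuotientGroup.eq, center_C0]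
  exact S.unique_dec hb hkg (h.symm.trans eg)

/-- The conjugate configuration. -/
noncomputable def conj (g : G) : Cfgn G where
  φ := (MulAut.conj g).toMonoidHom.comp S.φ
  inj := (MulAut.conj g).injective.comp S.inj
  z := g * S.z * g⁻¹
  z_eq := by simp [S.z_eq, MulAut.conj_apply]
  K := S.K.map (MulAut.conj g).toMonoidHom
  mem_K h := by
    rw [Subgroup.mem_map_equiv, MulAut.conj_symm_apply, S.mem_K]
    refine forall_congr' fun x => ?_
    simp only [MonoidHom.comp_apply, MulEquiv.coe_toMonoidHom, MulAut.conj_apply]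
    constructor
    · intro e
      calc h * (g * S.φ x * g⁻¹) = g * (g⁻¹ * h * g * S.φ x) * g⁻¹ := by group
        _ = _ := by rw [e]; group
    · intro e
      calc g⁻¹ * h * g * S.φ x = g⁻¹ * (h * (g * S.φ x * g⁻¹)) * g := by group
        _ = _ := by rw [e]; group
  decomp h hh := by
    obtain ⟨l, k, hk, e⟩ := S.decomp (g⁻¹ * h * g) (by
      calc g⁻¹ * h * g * S.z = g⁻¹ * (h * (g * S.z * g⁻¹)) * g := by group
        _ = _ := by rw [hh]; group)
    refine ⟨l, g * k * g⁻¹, ⟨k, hk, rfl⟩, ?_⟩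
    simp only [MonoidHom.comp_apply, MulEquiv.coe_toMonoidHom, MulAut.conj_apply]
    calc h = g * (g⁻¹ * h * g) * g⁻¹ := by group
      _ = _ := by rw [e]; group
  small := by
    rintro _ ⟨j, hj, rfl⟩ h2 h1 h hh
    simp only [MulEquiv.coe_toMonoidHom, MulAut.conj_apply] at h2 h1 hh ⊢
    have := S.small j hj (by
      calc j * j = g⁻¹ * (g * j * g⁻¹ * (g * j * g⁻¹)) * g := by group
        _ = 1 := by rw [h2]; group) (fun e => h1 (by rw [e]; group)) (g⁻¹ * h * g) (by
      calc g⁻¹ * h * g * j = g⁻¹ * (h * (g * j * g⁻¹)) * g := by group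
        _ = _ := by rw [hh]; group)
    calc h * (g * S.z * g⁻¹) = g * (g⁻¹ * h * g * S.z) * g⁻¹ := by group
      _ = _ := by rw [this]; group

end Cfgn

/-- Two commuting involutions, neither in the second factor of the other. -/
structure Pair (S T : Cfgn G) : Prop where
  comm : T.z * S.z = S.z * T.z
  out : T.z ∉ S.K
  out' : S.z ∉ T.K

namespace Pair

variable {S T : Cfgn G}

theorem symm (h : Pair S T) : Pair T S := ⟨h.comm.symm, h.out', h.out⟩

theorem z_dec (h : Pair S T) : ∃ l : C0, ∃ k ∈ T.K, S.z = T.φ l * k ∧ l * l ∈ zpowers tC ∧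
    l ∉ zpowers tC ∧ k * k = (T.φ (l * l))⁻¹ := by
  obtain ⟨l, k, hk, e⟩ := T.decomp S.z h.comm.symm
  obtain ⟨h1, h2⟩ := T.square_cases hk (e ▸ S.z_sq)
  exact ⟨l, k, hk, e, h1, fun hl => h.out' (e ▸ mul_mem (T.φ_mem_K hl) hk), h2⟩

theorem special {l : C0} (h : l * l ∈ zpowers tC) (hn : l ∉ zpowers tC) : Special (l : R) := by
  refine ⟨?_, fun e => hn ?_, fun e => hn ?_⟩
  · rcases mem_zpowers_tC.mp h with h | h
    exacts [Or.inl (congrArg Subtype.val h), Or.inr (congrArg Subtype.val h)]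
  · exact mem_zpowers_tC.mpr (Or.inl (Subtype.ext e))
  · exact mem_zpowers_tC.mpr (Or.inr (Subtype.ext e))

/-- No other involution of the second factor commutes with the conjugate. -/
theorem key (h : Pair S T) {j : G} (hj : j ∈ S.K) (h2 : j * j = 1) (h1 : j ≠ 1) (hz : j ≠ S.z) :
    ¬ j * T.z = T.z * j := by
  intro hji
  obtain ⟨l', k', hk', ez, hl2, hl', -⟩ := h.z_dec
  obtain ⟨l, k, hk, ej⟩ := T.decomp j hji
  obtain ⟨hll, -⟩ := T.square_cases hk (ej ▸ h2)
  have hcz : ∀ g : C0, g * l = l * g → g * l' = l' * g := fun g hg => by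
    have e1 : T.φ g * j = j * T.φ g := by rw [ej]; exact T.φ_commutes_prod hk hg
    have e2 := S.small j hj h2 h1 _ e1
    rw [ez] at e2
    exact T.comm_cancel hk' e2
  have hl : l ∉ zpowers tC := fun hl => by
    refine hl' ?_
    rw [← center_C0, Subgroup.mem_center_iff]
    intro g
    refine hcz g ?_
    rw [← center_C0, Subgroup.mem_center_iff] at hl
    exact hl g
  have hpair := special_pair l.2 l'.2 (special hll hl) (special hl2 hl') (fun g hg e => by
    exact congrArg Subtype.val (hcz ⟨g, hg⟩ (Subtype.ext e)))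
  have hlc : l * l' ∈ zpowers tC := by
    rcases hpair with e | e
    · rw [show l' = l from Subtype.ext e]; exact hll
    · rw [show l' = tC * l from Subtype.ext e, ← mul_assoc, Subgroup.mem_center_iff.mp tC_center l, mul_assoc]
      exact mul_mem (mem_zpowers tC) hll
  have hm : j * S.z ∈ T.K := by
    rw [ej, ez, T.prod_mul hk]
    exact mul_mem (T.φ_mem_K hlc) (mul_mem hk hk')
  have hjz := S.K_z hj
  have hm2 : j * S.z * (j * S.z) = 1 := by
    calc j * S.z * (j * S.z) = j * (S.z * j) * S.z := by group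
      _ = j * j * (S.z * S.z) := by rw [← hjz]; group
      _ = 1 := by rw [h2, S.z_sq, one_mul]
  have hm1 : j * S.z ≠ 1 := fun e => hz ((eq_inv_of_mul_eq_one_left e).trans (inv_eq_of_mul_eq_one_left S.z_sq))
  apply h.out
  rw [S.mem_K]
  intro x
  exact (T.small (j * S.z) hm hm2 hm1 (S.φ x) (S.K_comm (mul_mem hj S.z_mem) x).symm).symm

/-- The map from a centraliser in the first double cover. -/
noncomputable def compMap (S T : Cfgn G) (A : Subgroup C0) (hA : ∀ a ∈ A, S.φ a * T.z = T.z * S.φ a) :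
    A →* C0 ⧸ Subgroup.center C0 :=
  T.proj.comp ((S.φ.comp A.subtype).codRestrict (Subgroup.centralizer ({T.z} : Set G)) fun a =>
    Subgroup.mem_centralizer_singleton_iff.mpr (hA a a.2))

theorem compMap_ker {A : Subgroup C0} (hA : ∀ a ∈ A, S.φ a * T.z = T.z * S.φ a) {a : A} :
    a ∈ (compMap S T A hA).ker ↔ S.φ a ∈ T.K := by
  rw [MonoidHom.mem_ker]
  show T.proj ⟨S.φ a, _⟩ = 1 ↔ _
  constructor
  · intro e
    obtain ⟨l, k, hk, el⟩ := T.decomp (S.φ a) (hA a a.2)
    rw [T.proj_spec _ hk el, QuotientGroup.eq_one_iff, center_C0] at e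
    rw [el]
    exact mul_mem (T.φ_mem_K e) hk
  · intro e
    rw [T.proj_spec _ e (a := 1) (by simp), QuotientGroup.mk_one]

/-- The elements of the second cover with a component in the centraliser. -/
noncomputable def compGroup (S T : Cfgn G) (A : Subgroup C0) (hA : ∀ a ∈ A, S.φ a * T.z = T.z * S.φ a) :
    Subgroup C0 :=
  (compMap S T A hA).range.comap (QuotientGroup.mk' (Subgroup.center C0))

theorem card_compGroup {A : Subgroup C0} (hA : ∀ a ∈ A, S.φ a * T.z = T.z * S.φ a) :
    Nat.card (compMap S T A hA).ker * Nat.card (compGroup S T A hA) = 2 * Nat.card A := by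
  have h1 := Subgroup.card_eq_card_quotient_mul_card_subgroup (compMap S T A hA).ker
  rw [Nat.card_congr (QuotientGroup.quotientKerEquivRange (compMap S T A hA)).toEquiv] at h1
  set Y := compGroup S T A hA
  let f : Y →* C0 ⧸ Subgroup.center C0 := (QuotientGroup.mk' (Subgroup.center C0)).comp Y.subtype
  have hrange : f.range = (compMap S T A hA).range := by
    rw [MonoidHom.range_comp, Subgroup.range_subtype]
    exact Subgroup.map_comap_eq_self_of_surjective (QuotientGroup.mk'_surjective _) _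
  have hker : Nat.card f.ker = 2 := by
    have e : f.ker = (Subgroup.center C0).subgroupOf Y := by
      rw [← MonoidHom.comap_ker, QuotientGroup.ker_mk']; rfl
    rw [e, Nat.card_congr (Subgroup.subgroupOfEquivOfLe ?_).toEquiv, center_C0, Nat.card_zpowers,
      orderOf_eq_prime (by rw [pow_two, tC_sq]) tC_ne_one]
    intro c hc
    show QuotientGroup.mk' _ c ∈ (compMap S T A hA).range
    rw [show QuotientGroup.mk' (Subgroup.center C0) c = 1 from (QuotientGroup.eq_one_iff c).mpr hc]
    exact one_mem _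
  have h2 := Subgroup.card_eq_card_quotient_mul_card_subgroup f.ker
  rw [Nat.card_congr (QuotientGroup.quotientKerEquivRange f).toEquiv, hrange, hker] at h2
  rw [h1, h2]; ring

theorem comm_mod {A : Subgroup C0} (hA : ∀ a ∈ A, S.φ a * T.z = T.z * S.φ a) {u : C0} {c : G}
    (hc : c ∈ T.K) (hu : ∀ a ∈ A, S.φ a * (T.φ u * c) = T.φ u * c * S.φ a) {y : C0}
    (hy : y ∈ compGroup S T A hA) : y * u * y⁻¹ = u ∨ y * u * y⁻¹ = tC * u := by
  obtain ⟨a, ea⟩ := hy
  obtain ⟨l, k, hk, el⟩ := T.decomp (S.φ a) (hA a a.2)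
  have e : (QuotientGroup.mk l : C0 ⧸ Subgroup.center C0) = QuotientGroup.mk y := by
    rw [← T.proj_spec ⟨S.φ a, Subgroup.mem_centralizer_singleton_iff.mpr (hA a a.2)⟩ hk el]
    exact ea
  rw [QuotientGroup.eq] at e
  have h := hu a a.2
  rw [el, T.prod_mul hk, T.prod_mul hc] at h
  have h' := T.unique_dec (mul_mem hk hc) (mul_mem hc hk) h
  have hy : y = l * (l⁻¹ * y) := by group
  have e2 : y * u * y⁻¹ = l * u * l⁻¹ := by
    rw [hy]
    have := Subgroup.mem_center_iff.mp e u
    calc l * (l⁻¹ * y) * u * (l * (l⁻¹ * y))⁻¹ = l * ((l⁻¹ * y) * u * (l⁻¹ * y)⁻¹) * l⁻¹ := by group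
      _ = _ := by rw [← this]; group
  have e3 : l * u * l⁻¹ = u * (((u * l)⁻¹ * (l * u))) := by
    have : Subgroup.center C0 = zpowers tC := center_C0
    have hcen := Subgroup.mem_center_iff.mp (this.symm ▸ h' : (u * l)⁻¹ * (l * u) ∈ Subgroup.center C0) l⁻¹
    calc l * u * l⁻¹ = u * l * (((u * l)⁻¹ * (l * u)) * l⁻¹) := by group
      _ = _ := by rw [← hcen]; group
  rcases mem_zpowers_tC.mp h' with h' | h'
  · left; rw [e2, e3, h', mul_one]
  · right; rw [e2, e3, h', Subgroup.mem_center_iff.mp tC_center u]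

theorem kernel_normal {A : Subgroup C0} (hA : ∀ a ∈ A, S.φ a * T.z = T.z * S.φ a) {g : C0} (hg : g ∈ A)
    {d : A} (hd : d ∈ (compMap S T A hA).ker) : (⟨g, hg⟩ * d * ⟨g, hg⟩⁻¹ : A) ∈ (compMap S T A hA).ker :=
  Subgroup.Normal.conj_mem inferInstance d hd _

/-- The conjugate lies in the double cover. -/
theorem side [Finite G] (h : Pair S T) : ∃ l : C0, l * l = 1 ∧ l ∉ zpowers tC ∧ T.z = S.φ l := by
  obtain ⟨l, k, hk, ei, hl2, hl, hk2⟩ := h.symm.z_dec
  rcases mem_zpowers_tC.mp hl2 with h2 | h2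
  · rw [h2, map_one, inv_one] at hk2
    rcases eq_or_ne k 1 with rfl | hk1
    · exact ⟨l, h2, hl, by rw [ei, mul_one]⟩
    rcases eq_or_ne k S.z with rfl | hkz
    · refine ⟨l * tC, ?_, fun e => hl ?_, by rw [ei, map_mul, S.z_eq]⟩
      · calc l * tC * (l * tC) = l * (tC * l) * tC := by group
          _ = l * l * (tC * tC) := by rw [← Subgroup.mem_center_iff.mp tC_center l]; group
          _ = 1 := by rw [h2, tC_sq, one_mul]
      · simpa using mul_mem e (inv_mem (mem_zpowers tC))
    exfalso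
    refine h.key hk hk2 hk1 hkz ?_
    rw [ei, ← mul_assoc, S.K_comm hk l]
  exfalso
  rw [h2, S.z_eq, inv_eq_of_mul_eq_one_left S.z_sq] at hk2
  have hki : k * T.z = T.z * k := by rw [ei, ← mul_assoc, S.K_comm hk l]
  obtain ⟨u, c, hc, ek⟩ := T.decomp k hki
  obtain ⟨l', k', hk', ez, hl2', hl', -⟩ := h.z_dec
  have huu : l'⁻¹ * (u * u) ∈ zpowers tC :=
    T.unique_dec (mul_mem hc hc) hk' (by rw [← T.sq_dec hc, ← ek, hk2, ez])
  set A : Subgroup C0 := Subgroup.centralizer ({l} : Set C0)
  have hA : ∀ a ∈ A, S.φ a * T.z = T.z * S.φ a := fun a ha => by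
    rw [ei]; exact S.φ_commutes_prod hk (Subgroup.mem_centralizer_singleton_iff.mp ha)
  have hodd : ¬ 2 ∣ Nat.card (compMap S T A hA).ker := by
    intro hev
    have : Fact (Nat.Prime 2) := ⟨Nat.prime_two⟩
    obtain ⟨d, hd⟩ := exists_prime_orderOf_dvd_card' 2 hev
    have hd2 : ((d : A) : C0) * ((d : A) : C0) = 1 := by
      have := pow_orderOf_eq_one d
      rw [hd, pow_two] at this
      exact congrArg (fun x : (compMap S T A hA).ker => ((x : A) : C0)) this
    have hd1 : ((d : A) : C0) ≠ 1 := fun e => by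
      rw [show d = 1 from Subtype.ext (Subtype.ext e), orderOf_one] at hd
      norm_num at hd
    have hK := (compMap_ker hA).mp d.2
    refine h.symm.key hK (by rw [← map_mul, hd2, map_one]) (fun e => hd1 (S.inj (by rw [e, map_one])))
      (fun e => ?_) (S.φ_z _)
    rw [ei] at e
    have hlk : l⁻¹ * ((d : A) : C0) ∈ zpowers tC :=
      S.unique_dec (one_mem _) hk (by rw [mul_one, e])
    have hkK : k = S.φ (l⁻¹ * ((d : A) : C0)) := by rw [map_mul, map_inv, e]; group
    rw [hkK, ← map_mul] at hk2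
    rcases mem_zpowers_tC.mp hlk with e' | e' <;> rw [e'] at hk2
    · rw [one_mul, map_one] at hk2; exact S.z_ne_one hk2.symm
    · rw [tC_sq, map_one] at hk2; exact S.z_ne_one hk2.symm
  have hY : 2 ^ 10 ∣ Nat.card (compGroup S T A hA) := by
    have h9 : 2 ^ 9 ∣ Nat.card A := two_pow_dvd_centralizer h2
    have h10 : 2 ^ 10 ∣ Nat.card (compMap S T A hA).ker * Nat.card (compGroup S T A hA) := by
      rw [card_compGroup, show 2 ^ 10 = 2 * 2 ^ 9 by norm_num]; exact Nat.mul_dvd_mul_left 2 h9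
    exact ((Nat.prime_two.coprime_iff_not_dvd.mpr hodd).pow_left 10).dvd_of_dvd_mul_left h10
  have hcm : ∀ y ∈ compGroup S T A hA, y * u * y⁻¹ = u ∨ y * u * y⁻¹ = tC * u := fun y hy =>
    comm_mod hA hc (fun a _ => by rw [← ek, S.K_comm hk a]) hy
  have hsq' : (u : C0) * u = l' ∨ u * u = tC * l' := by
    rcases mem_zpowers_tC.mp huu with e | e
    · exact Or.inl (inv_mul_eq_one.mp e).symm
    · right; rw [← Subgroup.mem_center_iff.mp tC_center l', ← e, mul_inv_cancel_left]
  have hl4 : l' * l' * (l' * l') = 1 := by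
    rcases mem_zpowers_tC.mp hl2' with e | e <;> rw [e]
    exacts [one_mul _, tC_sq]
  have hu8 : (u : R) ^ 8 = 1 := by
    have hu4 : u * u * (u * u) = l' * l' := by
      rcases hsq' with e | e <;> rw [e]
      calc tC * l' * (tC * l') = tC * (l' * tC) * l' := by group
        _ = tC * tC * (l' * l') := by rw [Subgroup.mem_center_iff.mp tC_center l']; group
        _ = _ := by rw [tC_sq, one_mul]
    have : u ^ 8 = 1 := by
      calc u ^ 8 = u * u * (u * u) * (u * u * (u * u)) := by simp only [pow_succ, pow_zero, one_mul, mul_assoc]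
        _ = 1 := by rw [hu4, hl4]
    simpa using congrArg Subtype.val this
  have hfin := sq_central_of_sylow u.2 hu8 ((compGroup S T A hA).map C0.subtype) (Subgroup.map_subtype_le _)
    (by rwa [Subgroup.card_map_of_injective C0.subtype_injective]) (by
      rintro _ ⟨y, hy, rfl⟩
      rcases hcm y hy with e | e
      exacts [Or.inl (congrArg Subtype.val e), Or.inr (congrArg Subtype.val e)])
  apply hl'
  have hu2 : u * u ∈ zpowers tC := by
    rcases hfin with e | e
    · exact mem_zpowers_tC.mpr (Or.inl (Subtype.ext e))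
    · exact mem_zpowers_tC.mpr (Or.inr (Subtype.ext e))
  have e : l' = u * u * (l'⁻¹ * (u * u))⁻¹ := by group
  rw [e]
  exact mul_mem hu2 (inv_mem huu)

/-- The second factor has one involution. -/
theorem unique_involution [Finite G] (h : Pair S T) {j : G} (hj : j ∈ S.K) (h2 : j * j = 1)
    (h1 : j ≠ 1) : j = S.z := by
  by_contra hz
  obtain ⟨l, -, -, e⟩ := h.side
  exact h.key hj h2 h1 hz (by rw [e]; exact S.K_comm hj l)

/-- A square root of the involution puts it into the class of squares. -/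
theorem class_a [Finite G] (h : Pair S T) {x : G} (hx : x ∈ S.K) (hxx : x * x = S.z) :
    ∃ l' : C0, S.z = T.φ l' ∧ (∃ v : C0, l' = v * aC * v⁻¹) ∧
      ∃ u : C0, ∃ c ∈ T.K, x = T.φ u * c ∧ (u * u = l' ∨ u * u = tC * l') := by
  obtain ⟨l, -, -, ei⟩ := h.side
  obtain ⟨l', hl2', hl', ez⟩ := h.symm.side
  have hxi : x * T.z = T.z * x := by rw [ei]; exact S.K_comm hx l
  obtain ⟨u, c, hc, ex⟩ := T.decomp x hxi
  have huu : l'⁻¹ * (u * u) ∈ zpowers tC :=
    T.unique_dec (mul_mem hc hc) (one_mem _) (by rw [← T.sq_dec hc, ← ex, hxx, mul_one, ez])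
  have hsq : u * u = l' ∨ u * u = tC * l' := by
    rcases mem_zpowers_tC.mp huu with e | e
    · exact Or.inl (inv_mul_eq_one.mp e).symm
    · right; rw [← Subgroup.mem_center_iff.mp tC_center l', ← e, mul_inv_cancel_left]
  obtain ⟨v, hv, e⟩ := square_class u.2 (congrArg Subtype.val hl2')
    (fun e => hl' (mem_zpowers_tC.mpr (Or.inl (Subtype.ext e))))
    (fun e => hl' (mem_zpowers_tC.mpr (Or.inr (Subtype.ext e))))
    (hsq.imp (congrArg Subtype.val) (congrArg Subtype.val))
  exact ⟨l', ez, ⟨⟨v, hv⟩, Subtype.ext e⟩, u, c, hc, ex, hsq⟩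

theorem mem_centralizer_conj {v a g : C0} :
    g ∈ Subgroup.centralizer ({v * a * v⁻¹} : Set C0) ↔
      v⁻¹ * g * v ∈ Subgroup.centralizer ({a} : Set C0) := by
  rw [Subgroup.mem_centralizer_singleton_iff, Subgroup.mem_centralizer_singleton_iff]
  constructor
  · intro h
    calc v⁻¹ * g * v * a = v⁻¹ * (g * (v * a * v⁻¹)) * v := by group
      _ = _ := by rw [h]; group
  · intro h
    calc g * (v * a * v⁻¹) = v * (v⁻¹ * g * v * a) * v⁻¹ := by group
      _ = _ := by rw [h]; group

/-- No square root of the involution in the second factor. -/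
theorem no_root [Finite G] (h : Pair S T) {x x' : G} (hx : x ∈ S.K) (hxx : x * x = S.z)
    (hx' : x' ∈ T.K) (hxx' : x' * x' = T.z) : False := by
  obtain ⟨l', ez, ⟨v', hv'⟩, u, c, hc, ex, hsq⟩ := h.class_a hx hxx
  obtain ⟨l, ei, ⟨v, hv⟩, -⟩ := h.symm.class_a hx' hxx'
  set A : Subgroup C0 := Subgroup.centralizer ({l} : Set C0) with hAdef
  have hA : ∀ a ∈ A, S.φ a * T.z = T.z * S.φ a := fun a ha => by
    rw [ei, ← map_mul, ← map_mul, Subgroup.mem_centralizer_singleton_iff.mp ha]
  have hcard : Nat.card A = 4608 := by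
    rw [← card_centralizer_aC]
    have e : A = (Subgroup.centralizer ({aC} : Set C0)).map (MulAut.conj v).toMonoidHom := by
      ext g
      rw [Subgroup.mem_map_equiv, MulAut.conj_symm_apply, hAdef, hv, mem_centralizer_conj]
    rw [e, Subgroup.card_map_of_injective (MulAut.conj v).injective]
  have h3 : ¬ 3 ∣ Nat.card (compMap S T A hA).ker := by
    intro hev
    have : Fact (Nat.Prime 3) := ⟨Nat.prime_three⟩
    obtain ⟨d, hd⟩ := exists_prime_orderOf_dvd_card' 3 hev
    let D : Subgroup C0 := (compMap S T A hA).ker.map A.subtype |>.map (MulAut.conj v).symm.toMonoidHom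
    have hDA : D ≤ Subgroup.centralizer {aC} := by
      rintro _ ⟨_, ⟨a, -, rfl⟩, rfl⟩
      show (MulAut.conj v).symm (a : C0) ∈ _
      rw [MulAut.conj_symm_apply, ← mem_centralizer_conj, ← hv]
      exact a.2
    have hnD : ∀ g : C0, g * aC = aC * g → ∀ y ∈ D, g * y * g⁻¹ ∈ D := by
      rintro g hg _ ⟨_, ⟨a, ha, rfl⟩, rfl⟩
      have hgA : v * g * v⁻¹ ∈ A := by
        rw [hAdef, hv, mem_centralizer_conj, Subgroup.mem_centralizer_singleton_iff]
        calc v⁻¹ * (v * g * v⁻¹) * v * aC = g * aC := by group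
          _ = aC * g := hg
          _ = _ := by group
      refine ⟨_, ⟨_, kernel_normal hA hgA ha, rfl⟩, ?_⟩
      simp only [MulEquiv.coe_toMonoidHom, MulAut.conj_symm_apply, Subgroup.coe_subtype, Subgroup.coe_mul,
        Subgroup.coe_inv]
      group
    have hdvd : 3 ∣ Nat.card D := by
      rw [Subgroup.card_map_of_injective (MulAut.conj v).symm.injective,
        Subgroup.card_map_of_injective A.subtype_injective]
      exact hev
    obtain ⟨T3, hT3⟩ := Sylow.exists_subgroup_card_pow_prime (G := D) 3 (n := 1) (by simpa using hdvd)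
    obtain ⟨P, hP⟩ := (IsPGroup.of_card hT3).map (Subgroup.inclusion hDA) |>.exists_le_sylow
    have hPc : 9 ∣ Nat.card ((P : Subgroup (Subgroup.centralizer ({aC} : Set C0))).map (Subgroup.subtype _)) := by
      rw [Subgroup.card_map_of_injective (Subgroup.subtype_injective _), P.card_eq_multiplicity, card_centralizer_aC,
        show (4608 : ℕ) = 3 ^ 2 * 512 by norm_num, Nat.factorization_mul (by norm_num) (by norm_num),
        Finsupp.add_apply, Nat.Prime.factorization_pow Nat.prime_three,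
        Nat.factorization_eq_zero_of_not_dvd (by norm_num : ¬ 3 ∣ 512)]
      simp
    obtain ⟨g, hg, hgQ⟩ := exists_conj_Q9 _ (Subgroup.map_subtype_le _) hPc
    obtain ⟨y, hy, hy1⟩ : ∃ y ∈ T3, y ≠ 1 := T3.ne_bot_iff_exists_ne_one.mp (fun e => by
      rw [e, Subgroup.card_bot] at hT3; norm_num at hT3) |>.imp' Subtype.val fun y hy => ⟨y.2, fun e => hy (Subtype.ext e)⟩
    have himg : Q9.map (MulAut.conj g).toMonoidHom =
        (P : Subgroup (Subgroup.centralizer ({aC} : Set C0))).map (Subgroup.subtype _) := by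
      refine Subgroup.eq_of_le_of_card_ge ?_ ?_
      · rintro _ ⟨q, hq, rfl⟩; exact hgQ q hq
      · rw [Subgroup.card_map_of_injective (Subgroup.subtype_injective _),
          Subgroup.card_map_of_injective (MulAut.conj g).injective, card_Q9, P.card_eq_multiplicity, card_centralizer_aC,
          show (4608 : ℕ) = 3 ^ 2 * 512 by norm_num, Nat.factorization_mul (by norm_num) (by norm_num),
          Finsupp.add_apply, Nat.Prime.factorization_pow Nat.prime_three,
          Nat.factorization_eq_zero_of_not_dvd (by norm_num : ¬ 3 ∣ 512)]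
        simp
    obtain ⟨q, hq, eq⟩ : (y : C0) ∈ Q9.map (MulAut.conj g).toMonoidHom := by
      rw [himg]
      exact ⟨_, hP ⟨y, hy, rfl⟩, rfl⟩
    replace eq : g * q * g⁻¹ = (y : C0) := eq
    have hgc := Subgroup.mem_centralizer_singleton_iff.mp hg
    have hqD : q ∈ D := by
      have := hnD g⁻¹ (by
        calc g⁻¹ * aC = g⁻¹ * (aC * g) * g⁻¹ := by group
          _ = _ := by rw [← hgc]; group) _ y.2
      rwa [← eq, show g⁻¹ * (g * q * g⁻¹) * g⁻¹⁻¹ = q by group] at this
    obtain ⟨w, hw, hw2, hw1, hwa⟩ := exists_other_involution D hq (fun e => hy1 (Subtype.ext (by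
      rw [← eq, e]; group; rfl))) hqD hnD
    obtain ⟨_, ⟨a, ha, rfl⟩, rfl⟩ := hw
    simp only [MulEquiv.coe_toMonoidHom, MulAut.conj_symm_apply, Subgroup.coe_subtype] at hw2 hw1 hwa
    have haK := (compMap_ker hA).mp ha
    have ha2 : (a : C0) * a = 1 := by
      calc (a : C0) * a = v * (v⁻¹ * a * v * (v⁻¹ * a * v)) * v⁻¹ := by group
        _ = 1 := by rw [hw2]; group
    have ha1 : (a : C0) ≠ 1 := fun e => hw1 (by rw [e]; group)
    have e := h.symm.unique_involution haK (by rw [← map_mul, ha2, map_one])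
      (fun e => ha1 (S.inj (by rw [e, map_one])))
    rw [ei] at e
    exact hwa (by rw [S.inj e, hv]; group)
  have hY9 : 9 ∣ Nat.card (compGroup S T A hA) := by
    have h9 : 9 ∣ Nat.card (compMap S T A hA).ker * Nat.card (compGroup S T A hA) := by
      rw [card_compGroup, hcard]; norm_num
    exact ((Nat.prime_three.coprime_iff_not_dvd.mpr h3).pow_left 2).dvd_of_dvd_mul_left h9
  have hYl : ∀ y ∈ compGroup S T A hA, v'⁻¹ * y * v' ∈ Subgroup.centralizer ({aC} : Set C0) := by
    intro y hy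
    rw [← mem_centralizer_conj, ← hv', Subgroup.mem_centralizer_singleton_iff]
    obtain ⟨a, ea⟩ := hy
    obtain ⟨b, k, hk, el⟩ := T.decomp (S.φ a) (hA a a.2)
    have e : (QuotientGroup.mk b : C0 ⧸ Subgroup.center C0) = QuotientGroup.mk y := by
      rw [← T.proj_spec ⟨S.φ a, Subgroup.mem_centralizer_singleton_iff.mpr (hA a a.2)⟩ hk el]
      exact ea
    rw [QuotientGroup.eq] at e
    have hz := S.φ_z a
    rw [el, ez] at hz
    have hbl : l' * b = b * l' := T.comm_cancel hk hz.symm
    have hcz := Subgroup.mem_center_iff.mp e l'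
    calc y * l' = b * ((b⁻¹ * y) * l') := by group
      _ = b * (l' * (b⁻¹ * y)) := by rw [← hcz]
      _ = (b * l') * (b⁻¹ * y) := by group
      _ = _ := by rw [← hbl]; group
  let Y' : Subgroup C0 := (compGroup S T A hA).map (MulAut.conj v').symm.toMonoidHom
  have hY'le : Y' ≤ Subgroup.centralizer {aC} := by
    rintro _ ⟨y, hy, rfl⟩
    show (MulAut.conj v').symm y ∈ _
    rw [MulAut.conj_symm_apply]
    exact hYl y hy
  obtain ⟨g, hg, hgQ⟩ := exists_conj_Q9 Y' hY'le
    (by rwa [Subgroup.card_map_of_injective (MulAut.conj v').symm.injective])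
  have hgc := Subgroup.mem_centralizer_singleton_iff.mp hg
  have hcm : ∀ y ∈ compGroup S T A hA, y * u * y⁻¹ = u ∨ y * u * y⁻¹ = tC * u := fun y hy =>
    comm_mod hA hc (fun a _ => by rw [← ex, S.K_comm hx a]) hy
  have ht : ∀ w : C0, w * tC = tC * w := fun w => Subgroup.mem_center_iff.mp tC_center w
  refine no_root_centralised (u := g⁻¹ * (v'⁻¹ * u * v') * g) ?_ ?_
  · have e0 : g⁻¹ * (v'⁻¹ * u * v') * g * (g⁻¹ * (v'⁻¹ * u * v') * g) = g⁻¹ * (v'⁻¹ * (u * u) * v') * g := by
      group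
    have e1 : g⁻¹ * (v'⁻¹ * l' * v') * g = aC := by
      rw [hv']
      calc g⁻¹ * (v'⁻¹ * (v' * aC * v'⁻¹) * v') * g = g⁻¹ * (aC * g) := by group
        _ = _ := by rw [← hgc, inv_mul_cancel_left]
    rcases hsq with e | e <;> rw [e0, e]
    · exact Or.inl e1
    · right
      rw [← e1, ← mul_assoc v'⁻¹ tC, ht, mul_assoc tC, mul_assoc tC, ← mul_assoc g⁻¹ tC, ht]
      group
  · intro q hq
    obtain ⟨y, hy, ey⟩ := hgQ q hq
    replace ey : v'⁻¹ * y * v' = g * q * g⁻¹ := ey
    have e2 : q * (g⁻¹ * (v'⁻¹ * u * v') * g) * q⁻¹ = g⁻¹ * (v'⁻¹ * (y * u * y⁻¹) * v') * g := by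
      rw [show q = g⁻¹ * (g * q * g⁻¹) * g by group, ← ey]; group
    rcases hcm y hy with e | e <;> rw [e2, e]
    · exact Or.inl rfl
    · right
      rw [← mul_assoc v'⁻¹ tC, ht, mul_assoc tC, mul_assoc tC, ← mul_assoc g⁻¹ tC, ht]
      group

end Pair

end Cfsg.Agent.Co3Rec.Std
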